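import Groth.Agent.Lib.ShStab28.Positive
import Groth.Agent.Lib.RefHull26.Closed
import Groth.Agent.Lib.DimF18.Basic
import Groth.Agent.Lib.SmoothReg17.Basic

/-!
# Maps between slope stable reflexive modules
-/

set_option autoImplicit false
set_option linter.style.haveILetI false
set_option maxHeartbeats 1000000
set_option backward.isDefEq.respectTransparency false

universe u

open CategoryTheory CategoryTheory.Limits AlgebraicGeometry TopologicalSpace StabCat

namespace Groth.Agent.ShStab28

open Groth.Agent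

variable {k : Type u} [Field k] {X : Scheme.{u}} [X.Over (Spec (CommRingCat.of k))]
  [IsProper (X ↘ Spec (CommRingCat.of k))]

theorem isNormalScheme_of_smooth [Smooth (X ↘ Spec (CommRingCat.of k))] : Pi1.IsNormalScheme X := fun x =>
  ⟨SmoothReg17.isDomain_stalk (X ↘ Spec (CommRingCat.of k)) x,
    SmoothReg17.isIntegrallyClosed_stalk (X ↘ Spec (CommRingCat.of k)) x⟩

theorem surjective_stalk_of_notMem {M N : X.Modules} (φ : M ⟶ N) {x : X} (hx : x ∉ CohB1.support (cokernel φ)) :
    Function.Surjective (RefHull.stalkMapₗ φ x) := by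
  have hS : (ShortComplex.mk φ (cokernel.π φ) (cokernel.condition φ)).Exact := ShortComplex.exact_cokernel φ
  exact fun b => (M1.exact_iff_stalk_eq_zero _).1 hS x b ((M1.notMem_support_iff _ x).1 hx _)

variable [IsIntegral X]

/-- Torsion free modules are pure of the dimension of the variety. -/
theorem isPure_of_closed1 {F : X.Modules} (hF : RH26.Closed1 F) {n : ℕ}
    (hX : topologicalKrullDim X = (n : WithBot ℕ∞)) : ShStab.IsPure X F n := by
  intro A i hi hA hA0
  haveI := hi
  have hgen : genericPoint X ∈ CohB1.support A := by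
    obtain ⟨x, hx⟩ : (CohB1.support A).Nonempty :=
      Set.nonempty_iff_ne_empty.2 fun h => hA0 (Snapper.isZero_of_support_empty h)
    obtain ⟨a, ha⟩ := (M1.mem_support_iff A x).1 hx
    refine (M1.mem_support_iff A _).2 ⟨A.presheaf.stalkSpecializes (RH26.gsp x) a, fun h => ha ?_⟩
    have hinj : Function.Injective (RefHull.stalkMapₗ i x) := (M1.mono_iff_stalk i).1 inferInstance x
    refine hinj (hF.1 x ?_)
    rw [RH26.stalkMapₗ_stalkSpecializes, h, map_zero, map_zero, map_zero]
  have huniv : CohB1.support A = Set.univ := Set.eq_univ_of_forall fun x =>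
    (genericPoint_specializes x).mem_closed (M1.isClosed_support hA.2) hgen
  rw [huniv, ← hX]
  exact (Homeomorph.Set.univ X).isHomeomorph.topologicalKrullDim_eq

variable [Smooth (X ↘ Spec (CommRingCat.of k))]

/-- Nonzero maps between slope stable reflexive modules, not decreasing the slope, are isomorphisms. -/
theorem isIso_of_muStable {n : ℕ} (hn : 1 ≤ n) (hX : topologicalKrullDim X = (n : WithBot ℕ∞))
    {L : X.Modules} (hL : CohB1.IsAmple L) {F G : X.Modules}
    (hFr : RefHull.IsReflexive F) (hGr : RefHull.IsReflexive G)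
    (hF : ShStab.IsMuStable k X L F n) (hG : ShStab.IsMuStable k X L G n)
    (hle : hatSlope n (hilb k X L G) ≤ hatSlope n (hilb k X L F)) {φ : F ⟶ G} (hφ : φ ≠ 0) : IsIso φ := by
  haveI : IsNoetherian X := CohFound.isNoetherian_of_isProper (X ↘ Spec (CommRingCat.of k))
  have hN := isNormalScheme_of_smooth (k := k) (X := X)
  have cF := (RH26.isReflexive_iff_closed1 hN hF.1).1 hFr
  have cG := (RH26.isReflexive_iff_closed1 hN hG.1).1 hGr
  have hi := hL.1
  have hpos := positive k hL
  have hPF := pure_of_isPure hi hpos hF.1 (isPure_of_closed1 cF hX)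
  have hPG := pure_of_isPure hi hpos hG.1 (isPure_of_closed1 cG hX)
  let S := sys k X L hi hpos
  obtain ⟨hFc, -, -, -, hmF⟩ := hF
  obtain ⟨hGc, -, -, -, hmG⟩ := hG
  have hI : Coh.IsCoh (Abelian.image φ) := Sys.ok_image S φ hFc hGc
  have hI0 := Sys.image_ne_zero hφ
  have hK : Coh.IsCoh (kernel φ) := S.ok_ker φ hFc hGc
  have hsumF : hilb k X L F = hilb k X L (kernel φ) + hilb k X L (Abelian.image φ) := by
    refine Sys.hp_of_ker S (kernel.ι φ) (Abelian.factorThruImage φ) ?_ (fun t ht => ?_) hFc hI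
    · rw [← cancel_mono (Abelian.image.ι φ), Category.assoc, Abelian.image.fac, kernel.condition, zero_comp]
    · exact ⟨kernel.lift φ t (by rw [← Abelian.image.fac φ, ← Category.assoc, ht, zero_comp]), kernel.lift_ι _ _ _⟩
  have hQc : Coh.IsCoh (cokernel (Abelian.image.ι φ)) := S.ok_coker _ hI hGc
  have hsumG : hilb k X L G = hilb k X L (Abelian.image φ) + hilb k X L (cokernel (Abelian.image.ι φ)) :=
    Sys.hp_mono S (Abelian.image.ι φ) hI hGc
  set pF := hilb k X L F
  set pG := hilb k X L G
  set pI := hilb k X L (Abelian.image φ)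
  set pK := hilb k X L (kernel φ)
  set pQ := hilb k X L (cokernel (Abelian.image.ι φ))
  have aI : 0 < alpha n pI := hPG.2.2 _ (Abelian.image.ι φ) inferInstance hI hI0
  have aK0 : 0 ≤ alpha n pK := alpha_nonneg (hPF.sub (kernel.ι φ) hK).2.1 (Sys.lc_nonneg S hK)
  have dQ : pQ.natDegree ≤ n := (Sys.deg_mono S (Abelian.image.ι φ) hI hGc).2.trans hPG.2.1
  have lQ : 0 ≤ pQ.leadingCoeff := Sys.lc_nonneg S hQc
  have aQ : 0 ≤ alpha n pQ := alpha_nonneg dQ lQ
  have bQ : alpha n pQ = 0 → 0 ≤ alpha (n - 1) pQ := fun h => by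
    refine alpha_nonneg ?_ lQ
    by_contra hd
    have hdn : pQ.natDegree = n := by omega
    have h0 : pQ.leadingCoeff = 0 := by
      rw [Polynomial.leadingCoeff, hdn]
      simpa [alpha, n.factorial_ne_zero] using h
    rw [Polynomial.leadingCoeff_eq_zero.1 h0, Polynomial.natDegree_zero] at hd
    omega
  have eF : alpha n pF = alpha n pK + alpha n pI := by rw [hsumF, alpha_add]
  have fF : alpha (n - 1) pF = alpha (n - 1) pK + alpha (n - 1) pI := by rw [hsumF, alpha_add]
  have eG : alpha n pG = alpha n pI + alpha n pQ := by rw [hsumG, alpha_add]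
  have fG : alpha (n - 1) pG = alpha (n - 1) pI + alpha (n - 1) pQ := by rw [hsumG, alpha_add]
  have hIG : hatSlope n pI ≤ hatSlope n pG := by
    rcases aQ.lt_or_eq with hlt | heq
    · exact (hmG _ (Abelian.image.ι φ) inferInstance hI pI pG (hilb_spec k hi hI) (hilb_spec k hi hGc) aI
        (by linarith)).le
    · rw [hatSlope, hatSlope, eG, fG, ← heq, add_zero]
      exact div_le_div_of_nonneg_right (by linarith [bQ heq.symm]) aI.le
  have hKz : IsZero (kernel φ) := by
    by_contra hne
    have aK : 0 < alpha n pK := hPF.2.2 _ (kernel.ι φ) inferInstance hK hne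
    have h := hmF _ (kernel.ι φ) inferInstance hK pK pF (hilb_spec k hi hK) (hilb_spec k hi hFc) aK (by linarith)
    have h' : hatSlope n pF < hatSlope n pI := by
      rw [hatSlope, hatSlope, eF, fF, div_lt_div_iff₀ aK (by linarith)] at h
      rw [hatSlope, hatSlope, eF, fF, div_lt_div_iff₀ (by linarith) aI]
      nlinarith
    linarith
  haveI : Mono φ := Preadditive.mono_of_kernel_zero (hKz.eq_of_src _ _)
  have hFI : pI = pF := by rw [hsumF, show pK = 0 from Sys.hp_zero S hKz, zero_add]
  have aQz : alpha n pQ = 0 := by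
    by_contra hne
    have h := hmG _ φ inferInstance hFc pF pG (hilb_spec k hi hFc) (hilb_spec k hi hGc) (hFI ▸ aI)
      (by rw [eG, hFI]; linarith [lt_of_le_of_ne aQ (Ne.symm hne)])
    linarith
  have bQz : alpha (n - 1) pQ = 0 := by
    have h0 := bQ aQz
    rw [← hFI, hatSlope, hatSlope, eG, fG, aQz, add_zero, div_le_div_iff_of_pos_right aI] at hle
    linarith
  have hsupp : ∀ ξ : X, ringKrullDim (X.presheaf.stalk ξ) ≤ 1 → ξ ∉ CohB1.support (cokernel (Abelian.image.ι φ)) := by
    intro ξ hξ hmem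
    have hQ0 : ¬ IsZero (cokernel (Abelian.image.ι φ)) := fun hz =>
      hmem (AddCommGrpCat.subsingleton_of_isZero ((M1.stalkAb ξ).map_isZero hz))
    obtain ⟨e, he⟩ := exists_dim_supp k hQc hQ0
    obtain ⟨hdeg, hlc⟩ := hpos _ hQc e he
    have hle1 : topologicalKrullDim (closure ({ξ} : Set X)) ≤ (e : WithBot ℕ∞) :=
      he ▸ Snapper.dim_le_of_subset ((M1.isClosed_support hQc.2).closure_subset_iff.2
        (Set.singleton_subset_iff.2 hmem)) le_rfl
    rw [VarDim.dim_closure_singleton (X ↘ Spec (CommRingCat.of k))] at hle1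
    have hse : VarDim.sdim (X ↘ Spec (CommRingCat.of k)) ξ ≤ e := by exact_mod_cast hle1
    have hgen := DimF18.sdim_le_add_coheight (X ↘ Spec (CommRingCat.of k)) (genericPoint_specializes ξ)
    rw [VarDim.dim_eq_sdim_genericPoint (X ↘ Spec (CommRingCat.of k))] at hX
    have hXn : VarDim.sdim (X ↘ Spec (CommRingCat.of k)) (genericPoint X) = n := by exact_mod_cast hX
    rw [ringKrullDim_stalk_eq_coheight] at hξ
    have hco : Order.coheight ξ ≤ (1 : ℕ∞) := by exact_mod_cast hξ
    have hn1 : (n : ℕ∞) ≤ ((VarDim.sdim (X ↘ Spec (CommRingCat.of k)) ξ + 1 : ℕ) : ℕ∞) := by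
      rw [← hXn]; push_cast; exact hgen.trans (add_le_add le_rfl hco)
    have hn1' : n ≤ VarDim.sdim (X ↘ Spec (CommRingCat.of k)) ξ + 1 := by exact_mod_cast hn1
    change pQ.natDegree = e at hdeg
    change 0 < pQ.leadingCoeff at hlc
    have hpow : ∀ m : ℕ, e = m → alpha m pQ ≠ 0 := fun m hm => (alpha_pos (hdeg.trans hm) hlc).ne'
    rcases (show e = n ∨ e = n - 1 by omega) with h | h
    · exact hpow n h aQz
    · exact hpow (n - 1) h bQz
  have hfac : φ = Abelian.factorThruImage φ ≫ Abelian.image.ι φ := (Abelian.image.fac φ).symm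
  haveI : Mono (Abelian.factorThruImage φ) := mono_of_mono_fac (Abelian.image.fac φ)
  haveI : IsIso (Abelian.factorThruImage φ) := isIso_of_mono_of_epi _
  have hsur : ∀ ξ : X, ringKrullDim (X.presheaf.stalk ξ) ≤ 1 → Function.Surjective (RefHull.stalkMapₗ φ ξ) := by
    intro ξ hξ b
    obtain ⟨a, ha⟩ := surjective_stalk_of_notMem (Abelian.image.ι φ) (hsupp ξ hξ) b
    obtain ⟨a', rfl⟩ := (M1.epi_iff_stalk (Abelian.factorThruImage φ)).1 inferInstance ξ a
    refine ⟨a', ?_⟩
    show (M1.stalkAb ξ).map φ a' = b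
    rw [hfac, Functor.map_comp]
    exact ha
  refine RH26.isIso_of_codim_one φ cF cG ⟨(M1.mono_iff_stalk φ).1 inferInstance _, hsur _ ?_⟩
    fun ξ hξ => hsur ξ hξ.le
  rw [ringKrullDim_eq_zero_of_isField
    (isField_stalk_of_closure_mem_irreducibleComponents X _ (by simp [irreducibleComponents_eq_singleton]))]
  exact zero_le_one

end Groth.Agent.ShStab28
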