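import Groth.Agent.Lib.ThetaGrp19.Scalar
import Groth.Agent.Lib.CurveCoh17.TensorExact
import Groth.Agent.Lib.CurveCoh17.Point
import Mathlib.LinearAlgebra.Eigenspace.Triangularizable
import Mathlib.RingTheory.LocalRing.Module
import Mathlib.FieldTheory.IsAlgClosed.Basic

/-!
# Endomorphisms of coherent modules over an algebraically closed field
-/

set_option autoImplicit false
set_option linter.style.haveILetI false
set_option maxHeartbeats 800000
set_option backward.isDefEq.respectTransparency false

universe u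

open CategoryTheory CategoryTheory.Limits AlgebraicGeometry TopologicalSpace TensorProduct

namespace Groth.Agent.ShStab28

open Groth.Agent CurveCoh17

variable (k : Type u) [Field k] [IsAlgClosed k] {X : Scheme.{u}} [X.Over (Spec (CommRingCat.of k))]
  [LocallyOfFiniteType (X ↘ Spec (CommRingCat.of k))]

theorem bijective_const_residue {x : X} (hx : IsClosed ({x} : Set X)) :
    Function.Bijective ((IsLocalRing.residue (X.presheaf.stalk x)).comp
      ((X.presheaf.germ ⊤ x trivial).hom.comp (Coh.toGlobal (X ↘ Spec (CommRingCat.of k))))) := by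
  set f := X ↘ Spec (CommRingCat.of k)
  set ρ := (residueFieldIsoBase f x hx).inv with hρ
  have h : Spec.map ρ = X.fromSpecResidueField x ≫ f := SpecMap_residueFieldIsoBase_inv f x hx
  have e : ρ = (Scheme.ΓSpecIso (CommRingCat.of k)).inv ≫ f.appTop ≫ X.presheaf.germ ⊤ x trivial ≫ X.residue x := by
    rw [← cancel_mono (Scheme.ΓSpecIso (X.residueField x)).inv, Scheme.ΓSpecIso_inv_naturality, h,
      Scheme.Hom.comp_appTop, Scheme.fromSpecResidueField, Scheme.Hom.comp_appTop, Scheme.fromSpecStalk_appTop]
    simp only [Category.assoc]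
    rw [Scheme.ΓSpecIso_inv_naturality]
    simp
  have hb : Function.Bijective ρ := ConcreteCategory.bijective_of_isIso ρ
  rw [e] at hb
  exact hb

omit [IsAlgClosed k] [LocallyOfFiniteType (X ↘ Spec (CommRingCat.of k))] in
theorem stalk_smulHom (M : X.Modules) (c : Γ(X, ⊤)) (x : X) (a : M.presheaf.stalk x) :
    stalkLin (ThetaGrp19.smulHom M c) x a = X.presheaf.germ ⊤ x trivial c • a := by
  obtain ⟨U, hU, s, rfl⟩ := M.presheaf.exists_germ_eq a
  rw [stalkLin_apply, M1.germ_naturality, ThetaGrp19.smulHom_app, M1.germ_smul]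
  exact congrArg (fun z : X.presheaf.stalk x => z • (M.presheaf.germ U x hU s : M.presheaf.stalk x))
    (TopCat.Presheaf.germ_res_apply _ _ _ _ _)

theorem exists_sub_smulHom_not_isIso [CompactSpace X] {E : X.Modules} (hE : Coh.IsCoh E)
    (h0 : (CohB1.support E).Nonempty) (φ : E ⟶ E) :
    ∃ c : k, ¬ IsIso (φ - ThetaGrp19.smulHom E (Coh.toGlobal (X ↘ Spec (CommRingCat.of k)) c)) := by
  obtain ⟨x, hxS, hx⟩ := (M1.isClosed_support hE.2).exists_closed_singleton h0
  let R := X.presheaf.stalk x
  let M := E.presheaf.stalk x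
  haveI : Module.Finite R M := M1.finite_stalk hE.1 hE.2 x
  haveI : Nontrivial M := not_subsingleton_iff_nontrivial.1 hxS
  let κ := IsLocalRing.ResidueField R
  obtain hb := bijective_const_residue k hx
  let eκ : k ≃+* κ := RingEquiv.ofBijective _ hb
  haveI : IsAlgClosed κ := IsAlgClosed.of_ringEquiv k κ eκ
  haveI : Nontrivial (κ ⊗[R] M) := by
    rw [← not_subsingleton_iff_nontrivial, IsLocalRing.subsingleton_tensorProduct]
    exact not_subsingleton M
  obtain ⟨μ, hμ⟩ := Module.End.exists_eigenvalue ((stalkLin φ x).baseChange κ)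
  obtain ⟨c, hc⟩ := eκ.surjective μ
  refine ⟨c, fun hiso => ?_⟩
  set ψ := φ - ThetaGrp19.smulHom E (Coh.toGlobal (X ↘ Spec (CommRingCat.of k)) c) with hψ
  set r : R := X.presheaf.germ ⊤ x trivial (Coh.toGlobal (X ↘ Spec (CommRingCat.of k)) c) with hr
  have hbij : Function.Bijective (stalkLin ψ x) :=
    ConcreteCategory.bijective_of_isIso ((M1.stalkAb x).map ψ)
  have hlin : stalkLin ψ x = stalkLin φ x - r • LinearMap.id := by
    refine LinearMap.ext fun a => ?_
    rw [LinearMap.sub_apply, LinearMap.smul_apply, LinearMap.id_apply, hr, ← stalk_smulHom E,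
      stalkLin_apply, stalkLin_apply, stalkLin_apply, hψ, Functor.map_sub]
    rfl
  let e : M ≃ₗ[R] M := LinearEquiv.ofBijective _ hbij
  have hinj : Function.Injective ((stalkLin ψ x).baseChange κ) := (LinearEquiv.baseChange R κ M M e).injective
  obtain ⟨v, hv⟩ := hμ.exists_hasEigenvector
  have h1 : (stalkLin ψ x).baseChange κ v = 0 := by
    rw [hlin, LinearMap.baseChange_sub, LinearMap.baseChange_smul, LinearMap.baseChange_id,
      LinearMap.sub_apply, hv.apply_eq_smul, LinearMap.smul_apply, LinearMap.id_apply, ← hc,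
      ← algebraMap_smul κ r v]
    exact sub_self _
  exact hv.2 (hinj (h1.trans (map_zero _).symm))

end Groth.Agent.ShStab28
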