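import Groth.Agent.Lib.ShStab28.Cat
import Groth.Agent.Lib.Snapper.Main
import Groth.Agent.Lib.VB17.Ext
import Groth.Agent.Lib.VarDim.Irred
import Groth.Agent.Lib.Twist.Triv
import Groth.Agent.Lib.DPerf.Noeth
import Groth.Agent.Lib.CohFound.ProjQuot
import Groth.Prelude.Def_ShStab
import Mathlib.Algebra.Group.ForwardDiff
import Mathlib.Algebra.Polynomial.BigOperators

/-!
# Coherent modules on a proper scheme over a field as a system with Hilbert polynomials
-/

set_option autoImplicit false
set_option linter.style.haveILetI false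
set_option maxHeartbeats 1000000
set_option backward.isDefEq.respectTransparency false

universe u

open CategoryTheory CategoryTheory.Limits AlgebraicGeometry TopologicalSpace StabCat

noncomputable section

namespace Groth.Agent.ShStab28

open Groth.Agent

variable (k : Type u) [Field k] {X : Scheme.{u}} [X.Over (Spec (CommRingCat.of k))]
  [IsProper (X ↘ Spec (CommRingCat.of k))]

theorem exists_dim_bound (k : Type u) [Field k] (X : Scheme.{u}) [X.Over (Spec (CommRingCat.of k))]
    [IsProper (X ↘ Spec (CommRingCat.of k))] : ∃ N : ℕ, topologicalKrullDim X ≤ (N : WithBot ℕ∞) := by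
  by_cases h : Nonempty X
  · obtain ⟨x, hx, -⟩ := VarDim.exists_dim_eq (X ↘ Spec (CommRingCat.of k))
    exact ⟨_, hx.le⟩
  · haveI := not_nonempty_iff.mp h
    exact ⟨0, by
      haveI : IsEmpty (IrreducibleCloseds X) := ⟨fun s => (IsEmpty.false (α := X) s.isIrreducible'.nonempty.some)⟩
      exact (le_of_eq Order.krullDim_eq_bot).trans bot_le⟩

include k in
theorem exists_dim_supp {E : X.Modules} (hE : Coh.IsCoh E) (h0 : ¬ IsZero E) :
    ∃ e : ℕ, topologicalKrullDim (CohB1.support E) = (e : WithBot ℕ∞) := by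
  obtain ⟨N, hN⟩ := exists_dim_bound k X
  have hle : topologicalKrullDim (CohB1.support E) ≤ (N : WithBot ℕ∞) :=
    le_trans Topology.IsInducing.subtypeVal.topologicalKrullDim_le hN
  haveI : Nonempty (CohB1.support E) := Set.nonempty_coe_sort.mpr
    (Set.nonempty_iff_ne_empty.mpr fun h => h0 (Snapper.isZero_of_support_empty h))
  haveI : Nonempty (IrreducibleCloseds (CohB1.support E)) :=
    ⟨⟨closure {Classical.arbitrary (CohB1.support E)}, isIrreducible_singleton.closure, isClosed_closure⟩⟩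
  have hge : (0 : WithBot ℕ∞) ≤ topologicalKrullDim (CohB1.support E) := Order.krullDim_nonneg_iff.mpr inferInstance
  generalize topologicalKrullDim (CohB1.support E) = t at *
  cases t with
  | bot => simp at hge
  | coe a =>
    cases a with
    | top => exact absurd hle (by rw [not_le]; exact_mod_cast ENat.coe_lt_top N)
    | coe n => exact ⟨n, rfl⟩

theorem natDegree_aeval_X_le {P : MvPolynomial (Fin 1) ℚ} {d : ℕ} (hP : P.totalDegree ≤ d) :
    (MvPolynomial.aeval (fun _ : Fin 1 => (Polynomial.X : Polynomial ℚ)) P).natDegree ≤ d := by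
  rw [MvPolynomial.aeval_def, MvPolynomial.eval₂_eq]
  refine Polynomial.natDegree_sum_le_of_forall_le _ _ fun s hs => ?_
  refine (Polynomial.natDegree_mul_le).trans ?_
  rw [show algebraMap ℚ (Polynomial ℚ) = Polynomial.C from rfl, Polynomial.natDegree_C, zero_add]
  refine (Polynomial.natDegree_prod_le _ _).trans ?_
  refine le_trans (Finset.sum_le_sum (g := fun i => s i) fun i _ => (Polynomial.natDegree_X_pow_le _)) ?_
  exact (MvPolynomial.le_totalDegree hs).trans hP

theorem exists_hilb {L E : X.Modules} (hL : PicF.IsInvertible L) (hE : Coh.IsCoh E) {d : ℕ}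
    (hd : topologicalKrullDim (CohB1.support E) ≤ (d : WithBot ℕ∞)) :
    ∃ P : Polynomial ℚ, P.natDegree ≤ d ∧ ShStab.IsHilbPoly k X L E P := by
  obtain ⟨P, hP, hPe⟩ := Snapper.snapper (k := k) (X := X) d E hE hd 1 (fun _ => L) (fun _ => hL)
  refine ⟨_, natDegree_aeval_X_le hP, fun m => ?_⟩
  have e : FGA.multiTwist (fun _ : Fin 1 => L) (fun _ => m) ≅ CohB1.tensorPow L m := M2.tensorRUnit _
  have h := hPe fun _ => m
  simp only at h
  rw [CurveCoh17.euler_iso (M2.tensorIso (Iso.refl E) e)] at h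
  refine h.trans ?_
  rw [MvPolynomial.aeval_def, ← Polynomial.coe_evalRingHom, MvPolynomial.eval₂_comp_left]
  refine (congrArg₂ (fun a b => MvPolynomial.eval₂ a b P) (RingHom.ext fun c => by simp) (funext fun i => by simp)).symm

variable (X) in
/-- The Hilbert polynomial (zero if there is none). -/
def hilb (L E : X.Modules) : Polynomial ℚ :=
  open scoped Classical in if h : ∃ P, ShStab.IsHilbPoly k X L E P then h.choose else 0

theorem hilb_unique {L E : X.Modules} {P Q : Polynomial ℚ} (hP : ShStab.IsHilbPoly k X L E P)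
    (hQ : ShStab.IsHilbPoly k X L E Q) : P = Q := by
  refine Polynomial.eq_of_infinite_eval_eq _ _ (Set.Infinite.mono (s := Set.range (Nat.cast : ℕ → ℚ)) ?_
    (Set.infinite_range_of_injective Nat.cast_injective))
  rintro _ ⟨m, rfl⟩
  exact (hP m).symm.trans (hQ m)

theorem hilb_eq {L E : X.Modules} {P : Polynomial ℚ} (hP : ShStab.IsHilbPoly k X L E P) : hilb k X L E = P := by
  classical
  have h : ∃ P, ShStab.IsHilbPoly k X L E P := ⟨P, hP⟩
  rw [hilb, dif_pos h]
  exact hilb_unique k h.choose_spec hP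

variable {L : X.Modules}

theorem hilb_spec (hL : PicF.IsInvertible L) {E : X.Modules} (hE : Coh.IsCoh E) :
    ShStab.IsHilbPoly k X L E (hilb k X L E) := by
  obtain ⟨N, hN⟩ := exists_dim_bound k X
  obtain ⟨P, -, hP⟩ := exists_hilb k hL hE (d := N)
    (le_trans Topology.IsInducing.subtypeVal.topologicalKrullDim_le hN)
  rwa [hilb_eq k hP]

theorem isHilbPoly_iff (hL : PicF.IsInvertible L) {E : X.Modules} (hE : Coh.IsCoh E) {P : Polynomial ℚ} :
    ShStab.IsHilbPoly k X L E P ↔ P = hilb k X L E :=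
  ⟨fun h => (hilb_eq k h).symm, fun h => h ▸ hilb_spec k hL hE⟩

theorem natDegree_hilb_le (hL : PicF.IsInvertible L) {E : X.Modules} (hE : Coh.IsCoh E) {d : ℕ}
    (hd : topologicalKrullDim (CohB1.support E) ≤ (d : WithBot ℕ∞)) : (hilb k X L E).natDegree ≤ d := by
  obtain ⟨P, hP, hPe⟩ := exists_hilb k hL hE hd
  rwa [hilb_eq k hPe]

theorem hilb_iso (hL : PicF.IsInvertible L) {E F : X.Modules} (e : E ≅ F) (hE : Coh.IsCoh E) :
    hilb k X L F = hilb k X L E :=
  hilb_eq k fun m => by
    rw [← hilb_spec k hL hE m]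
    exact congrArg _ (CurveCoh17.euler_iso (M2.tensorIso e (Iso.refl _))).symm

theorem hilb_add (hL : PicF.IsInvertible L) {S : ShortComplex X.Modules} (hS : S.ShortExact)
    (h1 : Coh.IsCoh S.X₁) (h2 : Coh.IsCoh S.X₂) (h3 : Coh.IsCoh S.X₃) :
    hilb k X L S.X₂ = hilb k X L S.X₁ + hilb k X L S.X₃ :=
  hilb_eq k fun m => by
    rw [Polynomial.eval_add, ← hilb_spec k hL h1 m, ← hilb_spec k hL h3 m]
    exact_mod_cast Snapper.euler_tensor_add (k := k) hS h1 h2 h3 (M2.isInvertible_tensorPow hL m)

/-- An integer-valued polynomial of degree at most `d` has integral `d`-th normalised coefficient. -/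
theorem exists_int_alpha {P : Polynomial ℚ} {d : ℕ} (hP : P.natDegree ≤ d)
    (h : ∀ m : ℕ, ∃ z : ℤ, P.eval (m : ℚ) = z) : ∃ z : ℤ, alpha d P = z := by
  rcases hP.lt_or_eq with hlt | rfl
  · exact ⟨0, by simp [alpha_eq_zero_of_lt hlt]⟩
  · have h1 := congrFun P.fwdDiff_iter_degree_eq_factorial (0 : ℚ)
    rw [fwdDiff_iter_eq_sum_shift] at h1
    choose z hz using h
    refine ⟨∑ j ∈ Finset.range (P.natDegree + 1), ((-1 : ℤ) ^ (P.natDegree - j) * P.natDegree.choose j) * z j, ?_⟩
    have h2 : alpha P.natDegree P = (P.leadingCoeff • (P.natDegree.factorial : ℚ → ℚ)) 0 := by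
      rw [Pi.smul_apply, Pi.natCast_apply, smul_eq_mul, alpha, Polynomial.leadingCoeff, mul_comm]
    rw [h2, ← h1]
    push_cast
    refine Finset.sum_congr rfl fun j _ => ?_
    rw [← hz j]
    simp only [zero_add, nsmul_one, zsmul_eq_mul, Int.cast_mul, Int.cast_pow, Int.cast_neg, Int.cast_one, Int.cast_natCast]

variable (X) in
/-- Positivity of Hilbert polynomials with respect to `L`. -/
def IsPositive (L : X.Modules) : Prop :=
  ∀ (E : X.Modules), Coh.IsCoh E → ∀ (e : ℕ), topologicalKrullDim (CohB1.support E) = (e : WithBot ℕ∞) →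
    (hilb k X L E).natDegree = e ∧ 0 < (hilb k X L E).leadingCoeff

theorem eq_zero_stalk_cokernel_of_surjective {M N : X.Modules} (hM : Coh.IsQCoh M) (hN : Coh.IsQCoh N) (g : M ⟶ N)
    {U : X.Opens} (hU : IsAffineOpen U) (hg : Function.Surjective (g.app U)) {x : X} (hx : x ∈ U)
    (a : (cokernel g).presheaf.stalk x) : a = 0 := by
  haveI hQ : Coh.IsQCoh (cokernel g) := M1.isQCoh_cokernel hM hN g
  obtain ⟨r, m, hr, he⟩ := M1.exists_germ_smul_eq (cokernel g) hU hx a
  obtain ⟨b, rfl⟩ := M1.app_surjective_affine_of_isQCoh hN hQ (cokernel.π g) hU m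
  obtain ⟨c, rfl⟩ := hg b
  have h0 : (cokernel.π g).app U (g.app U c) = 0 := by
    show (g ≫ cokernel.π g).app U c = 0
    rw [cokernel.condition]; rfl
  rw [h0, map_zero] at he
  exact (hr.smul_eq_zero).mp he

theorem wellFoundedGT_coh (k : Type u) [Field k] [X.Over (Spec (CommRingCat.of k))]
    [IsProper (X ↘ Spec (CommRingCat.of k))] {E : X.Modules} (hE : Coh.IsCoh E) :
    WellFoundedGT {A : Subobject E // Coh.IsCoh (A : X.Modules)} := by
  haveI : IsNoetherian X := CohFound.isNoetherian_of_isProper (X ↘ Spec (CommRingCat.of k))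
  haveI : ∀ U : X.affineOpens, IsNoetherianRing Γ(X, U.1) := fun U => IsLocallyNoetherian.component_noetherian U
  haveI : ∀ U : X.affineOpens, Module.Finite Γ(X, U.1) Γ(E, U.1) := fun U => M1.finite_sections hE.1 hE.2 U.2
  obtain ⟨T, hT⟩ := isCompact_univ.elim_finite_subcover (fun U : X.affineOpens => (U.1 : Set X))
    (fun U => U.1.isOpen) (fun x _ => by
      obtain ⟨V, hV, hxV, -⟩ := exists_isAffineOpen_mem_and_subset (U := (⊤ : X.Opens)) (x := x) trivial
      exact Set.mem_iUnion.mpr ⟨⟨V, hV⟩, hxV⟩)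
  let f : {A : Subobject E // Coh.IsCoh (A : X.Modules)} → ∀ U : T, Submodule Γ(X, U.1.1) Γ(E, U.1.1) :=
    fun A U => LinearMap.range
      ({ toFun := A.1.arrow.app U.1.1, map_add' := map_add (A.1.arrow.app U.1.1).hom,
         map_smul' := A.1.arrow.app_smul } : Γ((A.1 : X.Modules), U.1.1) →ₗ[Γ(X, U.1.1)] Γ(E, U.1.1))
  have hmono : StrictMono f := by
    intro A B hlt
    have hle : A.1 ≤ B.1 := hlt.le
    have hfac : ∀ (V : X.Opens) (s : Γ((A.1 : X.Modules), V)),
        B.1.arrow.app V ((Subobject.ofLE A.1 B.1 hle).app V s) = A.1.arrow.app V s := fun V s => by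
      conv_rhs => rw [← Subobject.ofLE_arrow hle]
      rfl
    refine lt_of_le_not_ge (fun U => ?_) fun hge => hlt.not_ge ?_
    · rintro _ ⟨s, rfl⟩
      exact ⟨(Subobject.ofLE A.1 B.1 hle).app _ s, hfac _ s⟩
    · show B.1 ≤ A.1
      let g := Subobject.ofLE A.1 B.1 hle
      have hz : IsZero (cokernel g) := by
        refine Snapper.isZero_of_support_empty (Set.eq_empty_of_forall_notMem fun x hx => ?_)
        obtain ⟨U, hU, hxU⟩ := Set.mem_iUnion₂.mp (hT (Set.mem_univ x))
        refine hx ⟨fun a b => ?_⟩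
        have hs : Function.Surjective (g.app U.1) := fun t => by
          obtain ⟨s, hs⟩ := hge ⟨U, hU⟩ ⟨t, rfl⟩
          exact ⟨s, M1.app_injective B.1.arrow U.1 ((hfac _ s).trans hs)⟩
        exact (eq_zero_stalk_cokernel_of_surjective A.2.1 B.2.1 g U.2 hs hxU a).trans
          (eq_zero_stalk_cokernel_of_surjective A.2.1 B.2.1 g U.2 hs hxU b).symm
      haveI : Epi g := Preadditive.epi_of_cokernel_zero (hz.eq_of_tgt _ _)
      haveI := isIso_of_mono_of_epi g
      exact Subobject.le_of_comm (inv g) (by simp [g])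
  haveI : Finite T := inferInstance
  haveI hN : ∀ U : T, IsNoetherian Γ(X, U.1.1) Γ(E, U.1.1) := fun U => isNoetherian_of_isNoetherianRing_of_finite _ _
  haveI : ∀ U : T, WellFoundedLT (Submodule Γ(X, U.1.1) Γ(E, U.1.1))ᵒᵈ := fun U => inferInstance
  haveI hw : WellFoundedLT (∀ U : T, (Submodule Γ(X, U.1.1) Γ(E, U.1.1))ᵒᵈ) := inferInstance
  exact ⟨(InvImage.wf (fun A => (fun U => OrderDual.toDual (f A U) : ∀ U : T, (Submodule Γ(X, U.1.1) Γ(E, U.1.1))ᵒᵈ))
    hw.wf).mono fun A B h => hmono h⟩

variable (X) in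
/-- Coherent modules form a system. -/
def sys (L : X.Modules) (hL : PicF.IsInvertible L) (hpos : IsPositive k X L) : Sys X.Modules where
  ok := Coh.IsCoh
  hp := hilb k X L
  ok_iso e h := CohFound.isCoh_of_iso e h
  hp_iso e h := hilb_iso k hL e h
  ok_zero h := DPerf.isCoh_of_isZero h
  ok_ker f hE hF := by
    haveI : IsNoetherian X := CohFound.isNoetherian_of_isProper (X ↘ Spec (CommRingCat.of k))
    exact M1.isCoh_kernel hE hF.1 f
  ok_coker f hE hF := by
    haveI : IsNoetherian X := CohFound.isNoetherian_of_isProper (X ↘ Spec (CommRingCat.of k))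
    exact M1.isCoh_cokernel hE.1 hF f
  ok_ext hS h1 h3 := by
    haveI : IsNoetherian X := CohFound.isNoetherian_of_isProper (X ↘ Spec (CommRingCat.of k))
    exact VB17.isCoh_extension hS h1 h3
  hp_add hS h1 h2 h3 := hilb_add k hL hS h1 h2 h3
  pos {E} hE h0 := by
    obtain ⟨e, he⟩ := exists_dim_supp k hE h0
    exact (hpos E hE e he).2
  alphaNat {E} d hE hd := by
    obtain ⟨z, hz⟩ := exists_int_alpha hd fun m => ⟨_, (hilb_spec k hL hE m).symm⟩
    have h0 : 0 ≤ alpha d (hilb k X L E) := alpha_nonneg hd <| by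
      by_cases h : IsZero E
      · have : hilb k X L E = 0 := hilb_eq k fun m => by
          have hT := M2.isInvertible_tensorPow hL m
          rw [Polynomial.eval_zero]
          exact_mod_cast Snapper.euler_of_isZero (k := k)
            (CurveCoh17.isCoh_tensor hE (Snapper.isCoh_of_isInvertible hT))
            (Snapper.isZero_of_support_empty (Set.subset_empty_iff.1 ((Snapper.support_tensor_subset E _).trans
              (show CohB1.support E = ∅ from Set.eq_empty_of_forall_notMem fun x hx =>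
                hx (AddCommGrpCat.subsingleton_of_isZero ((M1.stalkAb x).map_isZero h))).le)))
        rw [this, Polynomial.leadingCoeff_zero]
      · obtain ⟨e, he⟩ := exists_dim_supp k hE h
        exact (hpos E hE e he).2.le
    rw [hz] at h0
    exact ⟨z.toNat, by rw [hz]; exact_mod_cast (Int.toNat_of_nonneg (by exact_mod_cast h0)).symm⟩
  noeth hE := wellFoundedGT_coh k hE

end Groth.Agent.ShStab28
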