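import Groth.Agent.Lib.ShStab28.Filt
import Mathlib.Order.JordanHolder
import Mathlib.CategoryTheory.Abelian.Refinements
import Mathlib.Tactic.LinearCombination

/-!
# Uniqueness of the Jordan-Hölder factors
-/

universe w v u

open CategoryTheory CategoryTheory.Limits StabCat
open scoped Polynomial

noncomputable section

namespace Groth.Agent.ShStab28.Sys

variable {C : Type u} [Category.{v} C] [Abelian C] (S : Sys C) {E : C}

theorem redDiff_zero_left (d : ℕ) (P : ℚ[X]) : redDiff d 0 P = 0 := by simp [redDiff, alpha_zero]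

theorem redDiff_self (d : ℕ) (P : ℚ[X]) : redDiff d P P = 0 := sub_self _

/-- The cokernel attached to an interval. -/
def gap (x : Subobject E × Subobject E) : C := cokernel (Subobject.ofLE (x.1 ⊓ x.2) x.2 inf_le_right)

theorem nonempty_gap_iso {a b : Subobject E} (h : a ≤ b) : Nonempty (gap (a, b) ≅ cokernel (Subobject.ofLE a b h)) := by
  have e : ∀ (c : Subobject E) (hc : c ≤ b), c = a → Nonempty (cokernel (Subobject.ofLE c b hc) ≅ cokernel (Subobject.ofLE a b h)) := by
    rintro c hc rfl; exact ⟨Iso.refl _⟩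
  exact e _ _ (inf_eq_left.mpr h)

/-- The second isomorphism theorem for subobjects. -/
theorem nonempty_second_iso (hE : S.ok E) {x y : Subobject E} (hx : S.ok (x : C)) (hy : S.ok (y : C)) :
    Nonempty (cokernel (Subobject.ofLE x (x ⊔ y) le_sup_left) ≅ cokernel (Subobject.ofLE (x ⊓ y) y inf_le_right)) := by
  obtain ⟨hs, hi, hmod⟩ := S.modular_sub hE x y hx hy
  let φ : cokernel (Subobject.ofLE (x ⊓ y) y inf_le_right) ⟶ cokernel (Subobject.ofLE x (x ⊔ y) le_sup_left) :=
    cokernel.desc _ (Subobject.ofLE y (x ⊔ y) le_sup_right ≫ cokernel.π _) (by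
      rw [← Category.assoc, Subobject.ofLE_comp_ofLE,
        ← Subobject.ofLE_comp_ofLE (x ⊓ y) x (x ⊔ y) inf_le_left le_sup_left, Category.assoc, cokernel.condition, comp_zero])
  have hP := S.ok_coker (Subobject.ofLE (x ⊓ y) y inf_le_right) hi hy
  have hQ := S.ok_coker (Subobject.ofLE x (x ⊔ y) le_sup_left) hx hs
  have e : S.hp (cokernel (Subobject.ofLE x (x ⊔ y) le_sup_left)) =
      S.hp (cokernel (Subobject.ofLE (x ⊓ y) y inf_le_right)) := by
    rw [S.q_ofLE le_sup_left hx hs, S.q_ofLE inf_le_right hi hy, sub_eq_sub_iff_add_eq_add, hmod, add_comm]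
  haveI : Mono φ := by
    refine Preadditive.mono_of_cancel_zero _ fun {T} t ht => ?_
    obtain ⟨T', π, hπ, u, hu⟩ := surjective_up_to_refinements_of_epi (cokernel.π (Subobject.ofLE (x ⊓ y) y inf_le_right)) t
    rw [← cancel_epi π, comp_zero, hu]
    have h0 : (u ≫ Subobject.ofLE y (x ⊔ y) le_sup_right) ≫ cokernel.π (Subobject.ofLE x (x ⊔ y) le_sup_left) = 0 := by
      have : π ≫ t ≫ φ = 0 := by rw [ht, comp_zero]
      rw [← Category.assoc, hu, Category.assoc, cokernel.π_desc, ← Category.assoc] at this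
      exact this
    obtain ⟨l, hl⟩ := comp_lift le_sup_left _ h0
    have hf : (x ⊓ y).Factors (u ≫ y.arrow) := (Subobject.inf_factors _).mpr
      ⟨by
        rw [← Subobject.ofLE_arrow (le_sup_right : y ≤ x ⊔ y), ← Category.assoc, ← hl, Category.assoc,
          Subobject.ofLE_arrow]
        exact Subobject.factors_comp_arrow _, Subobject.factors_comp_arrow _⟩
    have : u = (x ⊓ y).factorThru _ hf ≫ Subobject.ofLE (x ⊓ y) y inf_le_right := by
      rw [← cancel_mono y.arrow, Category.assoc, Subobject.ofLE_arrow, Subobject.factorThru_arrow]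
    rw [this, Category.assoc, cokernel.condition, comp_zero]
  haveI := S.isIso_of_hp φ hP hQ e.symm
  exact ⟨(asIso φ).symm⟩

variable {d : ℕ}

/-- Subobjects with the reduced polynomial of the whole object. -/
def SameRed (d : ℕ) (A : Subobject E) : Prop := S.ok (A : C) ∧ redDiff d (S.hp (A : C)) (S.hp E) = 0

variable {S}

theorem SS.redDiff_nonneg (hE : S.SS d d E) {A : Subobject E} (hA : S.ok (A : C)) :
    0 ≤ (redDiff d (S.hp (A : C)) (S.hp E)).leadingCoeff := by
  by_cases hz : IsZero (A : C)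
  · rw [S.hp_zero hz, redDiff_zero_left, Polynomial.leadingCoeff_zero]
  · exact redLE_iff.mp ((le_self_iff ((S.deg_mono A.arrow hA hE.1.1).1.trans hE.1.2.1) hE.1.2.1).mp
      (hE.2 _ A.arrow inferInstance hA hz))

theorem SameRed.sup_inf (hE : S.SS d d E) {A B : Subobject E} (hA : S.SameRed d A) (hB : S.SameRed d B) :
    S.SameRed d (A ⊔ B) ∧ S.SameRed d (A ⊓ B) := by
  obtain ⟨h1, h2, h3⟩ := S.modular_sub hE.1.1 A B hA.1 hB.1
  have hsum : redDiff d (S.hp ((A ⊔ B : Subobject E) : C)) (S.hp E) +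
      redDiff d (S.hp ((A ⊓ B : Subobject E) : C)) (S.hp E) = 0 := by
    rw [← redDiff_add_fst, h3, redDiff_add_fst, hA.2, hB.2, add_zero]
  have n1 := hE.redDiff_nonneg h1
  have n2 := hE.redDiff_nonneg h2
  rcases n1.lt_or_eq with hlt | heq
  · have := lc_add_pos hlt n2
    rw [hsum, Polynomial.leadingCoeff_zero] at this
    exact absurd this (lt_irrefl _)
  · rw [eq_comm, Polynomial.leadingCoeff_eq_zero] at heq
    rw [heq, zero_add] at hsum
    exact ⟨⟨h1, heq⟩, ⟨h2, hsum⟩⟩

theorem modular_le (hE : S.ok E) {x y z : Subobject E} (hx : S.ok (x : C)) (hy : S.ok (y : C)) (hz : S.ok (z : C))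
    (hxz : x ≤ z) : (x ⊔ y) ⊓ z ≤ x ⊔ y ⊓ z := by
  obtain ⟨-, hyzi, myz⟩ := S.modular_sub hE y z hy hz
  obtain ⟨hxy, -, mxy⟩ := S.modular_sub hE x y hx hy
  obtain ⟨hl, -, ml⟩ := S.modular_sub hE x _ hx hyzi
  obtain ⟨-, hr, mr⟩ := S.modular_sub hE _ z hxy hz
  have hge : x ⊔ y ⊓ z ≤ (x ⊔ y) ⊓ z := sup_le (le_inf le_sup_left hxz) (inf_le_inf_right _ le_sup_right)
  rcases hge.lt_or_eq with hlt | he
  · exfalso
    have := (S.lat hE (S.hp E).natDegree le_rfl).pos _ _ hl hr hlt
    have ea : x ⊓ (y ⊓ z) = x ⊓ y := by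
      rw [← inf_assoc, inf_eq_left]; exact inf_le_left.trans hxz
    have eb : (x ⊔ y) ⊔ z = y ⊔ z := by
      rw [sup_assoc, sup_eq_right]; exact le_trans hxz le_sup_right
    rw [ea] at ml
    rw [eb] at mr
    have heq : S.hp ((((x ⊔ y) ⊓ z : Subobject E)) : C) = S.hp ((x ⊔ y ⊓ z : Subobject E) : C) := by
      linear_combination mr - ml + mxy - myz
    change 0 < (S.hp _ - S.hp _).leadingCoeff at this
    rw [heq, sub_self, Polynomial.leadingCoeff_zero] at this
    exact lt_irrefl _ this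
  · exact he.ge

variable (S) in
theorem sameRed_series (u : LTSeries (Subobject E)) (hh : u.head = ⊥)
    (hu : ∀ i : Fin u.length, S.St d d (factor u i) ∧ RedEq d (S.hp (factor u i)) (S.hp E)) :
    ∀ j, S.SameRed d (u j) := by
  have hok := S.ok_series u hh fun i => (hu i).1.1.1
  intro j
  refine ⟨hok j, ?_⟩
  induction j using Fin.induction with
  | zero => rw [show u 0 = ⊥ from hh, S.hp_bot_sub, redDiff_zero_left]
  | succ i ih =>
    have eq : S.hp (factor u i) = S.hp (u i.succ : C) - S.hp (u i.castSucc : C) := S.q_ofLE (u.step i).le (hok _) (hok _)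
    have e : S.hp (u i.succ : C) = S.hp (u i.castSucc : C) + S.hp (factor u i) := by rw [eq]; abel
    rw [e, redDiff_add_fst, ih, redEq_iff.mp (hu i).2, add_zero]

theorem no_between (hE : S.SS d d E) (h0 : ¬ IsZero E) {A B c : Subobject E} (h : A ≤ B) (hA : S.SameRed d A)
    (hB : S.ok (B : C)) (hc : S.SameRed d c) (h1 : A < c) (h2 : c < B)
    (hst : S.St d d (cokernel (Subobject.ofLE A B h))) (heq : RedEq d (S.hp (cokernel (Subobject.ofLE A B h))) (S.hp E)) :
    False := by
  obtain ⟨F, j, hj, hF, eF⟩ := S.exists_quot_of_sub h h1.le h2.le hA.1 hc.1 hB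
  haveI := hj
  have epos := (S.lat hE.1.1 d hE.1.2.1).pos _ _ hA.1 hc.1 h1
  change 0 < (S.hp (c : C) - S.hp (A : C)).leadingCoeff at epos
  rw [← eF] at epos
  have hF0 : ¬ IsZero F := fun hz => by
    rw [S.hp_zero hz, Polynomial.leadingCoeff_zero] at epos; exact lt_irrefl _ epos
  have hni : ¬ IsIso j := fun hi => by
    have e1 := S.hp_iso (@asIso _ _ _ _ j hi) hF
    rw [S.q_ofLE h hA.1 hB, eF, sub_left_inj] at e1
    have := (S.lat hE.1.1 d hE.1.2.1).pos _ _ hc.1 hB h2
    change 0 < (S.hp _ - S.hp _).leadingCoeff at this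
    rw [e1, sub_self, Polynomial.leadingCoeff_zero] at this
    exact lt_irrefl _ this
  have hlt := hst.2 F j hj hF hF0 hni
  have hdu := hst.1.2.1
  rw [lt_self_iff ((S.deg_mono j hF (S.ok_coker _ hA.1 hB)).1.trans hdu) hdu] at hlt
  have heF : redDiff d (S.hp F) (S.hp E) = 0 := by
    have e : S.hp (c : C) = S.hp (A : C) + S.hp F := by rw [eF]; abel
    have := hc.2
    rw [e, redDiff_add_fst, hA.2, zero_add] at this
    exact this
  have hFp : 0 < alpha d (S.hp F) := hst.1.2.2 F j hj hF hF0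
  have hgp : 0 < alpha d (S.hp (cokernel (Subobject.ofLE A B h))) :=
    hst.1.alpha_pos (not_isZero_coker (lt_of_le_of_ne h fun e => (h1.trans h2).ne e))
  exact redLT_iff_not_redLE.mp hlt (redEq_le (ShStab28.redEq_trans hgp.le (hE.1.alpha_pos h0) hFp.le heq
    (redEq_symm (redEq_iff.mpr heF))))

variable (S)

/-- Two Jordan-Hölder filtrations of a semistable object have isomorphic factors. -/
theorem jh_unique (hE : S.SS d d E) (h0 : ¬ IsZero E) (s t : LTSeries (Subobject E))
    (hs : s.head = ⊥ ∧ s.last = ⊤ ∧ ∀ i : Fin s.length, S.St d d (factor s i) ∧ RedEq d (S.hp (factor s i)) (S.hp E))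
    (ht : t.head = ⊥ ∧ t.last = ⊤ ∧ ∀ i : Fin t.length, S.St d d (factor t i) ∧ RedEq d (S.hp (factor t i)) (S.hp E)) :
    ∃ f : Fin s.length ≃ Fin t.length, ∀ i, Nonempty (factor s i ≅ factor t (f i)) := by
  letI : Lattice {A : Subobject E // S.SameRed d A} :=
    Subtype.lattice (fun A B hA hB => (SameRed.sup_inf hE hA hB).1) (fun A B hA hB => (SameRed.sup_inf hE hA hB).2)
  haveI : IsModularLattice {A : Subobject E // S.SameRed d A} :=
    ⟨fun {x} y {z} hxz => modular_le hE.1.1 x.2.1 y.2.1 z.2.1 hxz⟩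
  have qs := S.sameRed_series s hs.1 hs.2.2
  have qt := S.sameRed_series t ht.1 ht.2.2
  let s' : CompositionSeries {A : Subobject E // S.SameRed d A} := ⟨s.length, fun j => ⟨s j, qs j⟩, fun i =>
    ⟨s.step i, fun {c} h1 h2 => no_between hE h0 (s.step i).le (qs _) (qs _).1 c.2 h1 h2 (hs.2.2 i).1 (hs.2.2 i).2⟩⟩
  let t' : CompositionSeries {A : Subobject E // S.SameRed d A} := ⟨t.length, fun j => ⟨t j, qt j⟩, fun i =>
    ⟨t.step i, fun {c} h1 h2 => no_between hE h0 (t.step i).le (qt _) (qt _).1 c.2 h1 h2 (ht.2.2 i).1 (ht.2.2 i).2⟩⟩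
  obtain ⟨f, hf⟩ := CompositionSeries.jordan_holder s' t'
    (Subtype.ext (show s.head = t.head from hs.1.trans ht.1.symm))
    (Subtype.ext (show s.last = t.last from hs.2.1.trans ht.2.1.symm))
  refine ⟨f, fun i => ?_⟩
  have hrel : ∀ {x y : {A : Subobject E // S.SameRed d A}},
      Nonempty (gap ((x : Subobject E), (x : Subobject E) ⊔ y) ≅ gap ((x : Subobject E) ⊓ y, (y : Subobject E))) := by
    intro x y
    obtain ⟨a⟩ := nonempty_gap_iso (le_sup_left : (x : Subobject E) ≤ (x : Subobject E) ⊔ y)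
    obtain ⟨b⟩ := S.nonempty_second_iso hE.1.1 x.2.1 y.2.1
    obtain ⟨c⟩ := nonempty_gap_iso (inf_le_right : (x : Subobject E) ⊓ y ≤ y)
    exact ⟨a ≪≫ b ≪≫ c.symm⟩
  let e : {A : Subobject E // S.SameRed d A} × {A : Subobject E // S.SameRed d A} →
      {A : Subobject E // S.SameRed d A} × {A : Subobject E // S.SameRed d A} → Prop :=
    fun x y => Nonempty (gap (E := E) ((x.1 : Subobject E), (x.2 : Subobject E)) ≅
      gap (E := E) ((y.1 : Subobject E), (y.2 : Subobject E)))
  have key : e (s' i.castSucc, s' i.succ) (t' (f i).castSucc, t' (f i).succ) := by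
    apply JordanHolderLattice.Iso.rel e ?_ ?_ ?_ ?_ (hf i)
    · exact ⟨Iso.refl _⟩
    · intro x y h; exact ⟨h.some.symm⟩
    · intro x y z h h'; exact ⟨h.some ≪≫ h'.some⟩
    · intro x y _; exact hrel
  obtain ⟨k⟩ := key
  obtain ⟨a⟩ := nonempty_gap_iso (s.step i).le
  obtain ⟨b⟩ := nonempty_gap_iso (t.step (f i)).le
  exact ⟨a.symm ≪≫ k ≪≫ b⟩

end Groth.Agent.ShStab28.Sys
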