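import Groth.Agent.Lib.ShStab28.Stab
import Groth.Agent.Lib.ShStab28.JH
import Groth.Agent.Lib.Snapper.Hilb

/-!
# Hilbert polynomials with respect to an ample module are positive
-/

set_option autoImplicit false

universe u

open CategoryTheory AlgebraicGeometry

namespace Groth.Agent.ShStab28

theorem positive (k : Type u) [Field k] {X : Scheme.{u}} [X.Over (Spec (CommRingCat.of k))]
    [IsProper (X ↘ Spec (CommRingCat.of k))] {L : X.Modules} (hL : CohB1.IsAmple L) :
    IsPositive k X L := fun E hE e he => by
  have hP := hilb_spec k hL.1 hE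
  have hd := Snapper.natDegree_isHilbPoly hL hE he hP
  refine ⟨hd, ?_⟩
  rw [Polynomial.leadingCoeff, hd]
  exact Snapper.coeff_isHilbPoly_pos hL hE he hP

end Groth.Agent.ShStab28
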