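import Groth.Agent.Lib.ShStab28.Lat

/-!
# Further rules for comparing reduced polynomials
-/

open Polynomial StabCat

noncomputable section

namespace Groth.Agent.ShStab28

variable {d ℓ : ℕ} {A B P Q R : ℚ[X]}

theorem lc_add_nonneg (hA : 0 ≤ A.leadingCoeff) (hB : 0 ≤ B.leadingCoeff) : 0 ≤ (A + B).leadingCoeff := by
  have h1 := polyLE_iff.mpr (show 0 ≤ (A - 0).leadingCoeff by rwa [sub_zero])
  have h2 := polyLE_iff.mpr (show 0 ≤ (B - 0).leadingCoeff by rwa [sub_zero])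
  obtain ⟨N, hN⟩ := h1
  obtain ⟨M, hM⟩ := h2
  have := polyLE_iff.mp (show PolyLE 0 (A + B) from ⟨max N M, fun m hm => by
    have := hN m (le_trans (le_max_left _ _) hm)
    have := hM m (le_trans (le_max_right _ _) hm)
    simp only [eval_zero, eval_add] at *
    linarith⟩)
  rwa [sub_zero] at this

theorem lc_add_pos (hA : 0 < A.leadingCoeff) (hB : 0 ≤ B.leadingCoeff) : 0 < (A + B).leadingCoeff := by
  refine lt_of_le_of_ne (lc_add_nonneg hA.le hB) fun h => ?_
  have h0 : A + B = 0 := leadingCoeff_eq_zero.mp h.symm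
  rw [eq_neg_of_add_eq_zero_right h0, leadingCoeff_neg] at hB
  linarith

theorem redDiff_add_fst (d : ℕ) (A B R : ℚ[X]) : redDiff d (A + B) R = redDiff d A R + redDiff d B R := by
  simp only [redDiff, alpha_add, smul_add, add_smul]; abel

theorem le_self_iff (hP : P.natDegree ≤ d) (hQ : Q.natDegree ≤ d) : Le d d P Q ↔ RedLE d P Q := by
  rw [Le, topPart_self hP, topPart_self hQ]

theorem lt_self_iff (hP : P.natDegree ≤ d) (hQ : Q.natDegree ≤ d) : Lt d d P Q ↔ RedLT d P Q := by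
  rw [Lt, topPart_self hP, topPart_self hQ]

theorem eqv_self_iff (hP : P.natDegree ≤ d) (hQ : Q.natDegree ≤ d) : Eqv d d P Q ↔ RedEq d P Q := by
  rw [Eqv, topPart_self hP, topPart_self hQ]

theorem le_add_fst (hA : Le d ℓ A R) (hB : Le d ℓ B R) : Le d ℓ (A + B) R := by
  rw [Le, topPart_add]
  unfold Le at hA hB
  rw [redLE_iff] at hA hB ⊢
  rw [redDiff_add_fst]
  exact lc_add_nonneg hA hB

theorem le_zero_fst (d ℓ : ℕ) (R : ℚ[X]) : Le d ℓ 0 R := by
  have h : topPart ℓ d (0 : ℚ[X]) = 0 := by ext n; simp [coeff_topPart]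
  rw [Le, h, redLE_iff]
  simp [redDiff, alpha_zero]

theorem le_add_of_eqv {A' B' : ℚ[X]} (hP : 0 < alpha d P) (hQ : 0 < alpha d Q) (hA' : 0 ≤ alpha d A')
    (hB' : 0 ≤ alpha d B') (hA : Le d ℓ A' P) (hB : Le d ℓ B' Q) (he : Eqv d ℓ P Q) :
    Le d ℓ (A' + B') (P + Q) := by
  have hR : 0 ≤ alpha d (P + Q) := by rw [alpha_add]; linarith
  refine le_add_fst (le_trans' hA' hP hR hA (le_add_left_iff.mpr (eqv_iff.mp he).1)) ?_
  exact le_trans' hB' hQ hR hB (by rw [le_sum_iff_right]; exact (eqv_iff.mp he).2)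

theorem redLT_self_add (hA : 0 < alpha d A) (hB : 0 < B.leadingCoeff) (hB0 : alpha d B = 0) :
    RedLT d A (A + B) := by
  rw [redLT_add_left, redLT_iff, redDiff, hB0, zero_smul, sub_zero, smul_eq_C_mul, leadingCoeff_mul, leadingCoeff_C]
  exact mul_pos hA hB

theorem redDiff_sat {T : ℚ[X]} (hT : alpha d T = 0) :
    redDiff d A R = redDiff d (A + T) R + alpha d R • T := by
  simp only [redDiff, alpha_add, hT, add_zero, smul_add]; abel

theorem redLE_of_sat {T : ℚ[X]} (hT : alpha d T = 0) (hTl : 0 ≤ T.leadingCoeff) (hR : 0 ≤ alpha d R)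
    (h : RedLE d (A + T) R) : RedLE d A R := by
  rw [redLE_iff] at h ⊢
  rw [redDiff_sat hT]
  refine lc_add_nonneg h ?_
  rw [smul_eq_C_mul, leadingCoeff_mul, leadingCoeff_C]
  exact mul_nonneg hR hTl

theorem redLT_of_sat {T : ℚ[X]} (hT : alpha d T = 0) (hTl : 0 ≤ T.leadingCoeff) (hR : 0 ≤ alpha d R)
    (h : RedLT d (A + T) R) : RedLT d A R := by
  rw [redLT_iff] at h ⊢
  rw [redDiff_sat hT]
  refine lc_add_pos h ?_
  rw [smul_eq_C_mul, leadingCoeff_mul, leadingCoeff_C]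
  exact mul_nonneg hR hTl

theorem hatSlope_add (hP : 0 < alpha d P) (hQ : 0 < alpha d Q) (h : hatSlope d P = hatSlope d Q) :
    hatSlope d (P + Q) = hatSlope d P := by
  simp only [hatSlope, alpha_add] at h ⊢
  rw [div_eq_div_iff hP.ne' hQ.ne'] at h
  rw [div_eq_div_iff (by linarith) hP.ne']
  linarith

theorem eq_of_redEq_alpha (h : RedEq d P Q) (ha : alpha d P = alpha d Q) (h0 : alpha d P ≠ 0) : P = Q := by
  have h' : alpha d Q • P = alpha d Q • Q := by
    unfold RedEq at h; rw [h, ha]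
  exact smul_right_injective _ (ha ▸ h0) h'

end Groth.Agent.ShStab28
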