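import Groth.Agent.Lib.ShStab28.Cat
import Groth.Agent.Lib.ShStab28.Cmp

/-!
# Saturation, Jordan-Hölder filtrations and vanishing of maps
-/

universe w v u

open CategoryTheory CategoryTheory.Limits StabCat
open scoped Polynomial

noncomputable section

namespace Groth.Agent.ShStab28.Sys

variable {C : Type u} [Category.{v} C] [Abelian C] (S : Sys C) {E F G : C}

theorem comp_lift {A B : Subobject E} (h : A ≤ B) {T : C} (t : T ⟶ (B : C))
    (ht : t ≫ cokernel.π (Subobject.ofLE A B h) = 0) : ∃ l, l ≫ Subobject.ofLE A B h = t := by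
  let K := Abelian.monoIsKernelOfCokernel _ (cokernelIsCokernel (Subobject.ofLE A B h))
  exact ⟨K.lift (KernelFork.ofι _ ht), K.fac _ WalkingParallelPair.zero⟩

theorem isZero_bot_sub (E : C) : IsZero ((⊥ : Subobject E) : C) := by
  refine (IsZero.iff_id_eq_zero _).mpr ?_
  rw [← cancel_mono (⊥ : Subobject E).arrow]
  simp

theorem not_isZero_coker {A B : Subobject E} (h : A < B) : ¬ IsZero (cokernel (Subobject.ofLE A B h.le)) := by
  intro hz
  refine h.not_ge ?_
  haveI : Epi (Subobject.ofLE A B h.le) := Preadditive.epi_of_cokernel_zero (hz.eq_of_tgt _ _)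
  haveI := isIso_of_mono_of_epi (Subobject.ofLE A B h.le)
  exact Subobject.le_of_comm (inv (Subobject.ofLE A B h.le)) (by simp)

theorem ok_series (t : LTSeries (Subobject E)) (h : t.head = ⊥) (hf : ∀ i, S.ok (factor t i)) :
    ∀ j, S.ok ((t j : Subobject E) : C) := by
  intro j
  induction j using Fin.induction with
  | zero => exact (show S.ok ((t.head : Subobject E) : C) from h.symm ▸ S.ok_bot_sub E)
  | succ i ih =>
    exact S.ok_ext (S := ShortComplex.mk (Subobject.ofLE _ _ (t.step i).le) (cokernel.π _) (cokernel.condition _))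
      { exact := ShortComplex.exact_cokernel _ } ih (hf i)

/-- Maps from a semistable object into a filtered one with smaller factors vanish. -/
theorem hom_zero_of_factors {d ℓ : ℕ} {P : C} (hP : S.SS d ℓ P) (t : LTSeries (Subobject G)) (hh : t.head = ⊥)
    (hl : t.last = ⊤) (hss : ∀ i, S.SS d ℓ (factor t i))
    (hlt : ∀ i, Lt d ℓ (S.hp (factor t i)) (S.hp P)) (φ : P ⟶ G) : φ = 0 := by
  have key : ∀ j : Fin (t.length + 1), ∀ ψ : P ⟶ ((t j : Subobject G) : C), ψ = 0 := by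
    intro j
    induction j using Fin.induction with
    | zero => exact fun ψ => ((show (t 0 : Subobject G) = ⊥ from hh) ▸ isZero_bot_sub G).eq_of_tgt _ _
    | succ i ih =>
      intro ψ
      have hz : ψ ≫ cokernel.π (Subobject.ofLE _ _ (t.step i).le) = 0 := by
        by_contra hne
        exact not_le_iff.mpr (hlt i) (S.le_of_hom hP (hss i) hne)
      obtain ⟨l, rfl⟩ := comp_lift _ ψ hz
      rw [ih l, zero_comp]
  haveI htop : IsIso (t.last : Subobject G).arrow := (Subobject.isIso_arrow_iff_eq_top _).mpr hl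
  let e := @asIso _ _ _ _ _ htop
  exact (cancel_mono e.inv).mp ((key (Fin.last _) (φ ≫ e.inv)).trans zero_comp.symm)

/-- Maps out of a filtered object vanish when they vanish on each factor. -/
theorem hom_zero_of_factors_src (s : LTSeries (Subobject F)) (hh : s.head = ⊥) (hl : s.last = ⊤)
    (h : ∀ (i : Fin s.length) (ψ : factor s i ⟶ G), ψ = 0) (φ : F ⟶ G) : φ = 0 := by
  have key : ∀ j : Fin (s.length + 1), (s j : Subobject F).arrow ≫ φ = 0 := by
    intro j
    induction j using Fin.induction with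
    | zero => exact ((show (s 0 : Subobject F) = ⊥ from hh) ▸ isZero_bot_sub F).eq_of_src _ _
    | succ i ih =>
      have hw : Subobject.ofLE (s i.castSucc) (s i.succ) (s.step i).le ≫ (s i.succ).arrow ≫ φ = 0 := by
        rw [← Category.assoc, Subobject.ofLE_arrow]; exact ih
      have := h i (cokernel.desc _ _ hw)
      have e := cokernel.π_desc (Subobject.ofLE (s i.castSucc) (s i.succ) (s.step i).le) _ hw
      erw [this, comp_zero] at e
      exact e.symm
  haveI htop : IsIso (s.last : Subobject F).arrow := (Subobject.isIso_arrow_iff_eq_top _).mpr hl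
  have := key (Fin.last _)
  exact (cancel_epi (s.last : Subobject F).arrow).mp (this.trans comp_zero.symm)

/-- Saturation: every subobject of a pure object has a saturation with the same multiplicity. -/
theorem exists_saturation {d : ℕ} (hE : S.Pure E d) (i : F ⟶ E) [Mono i] (hF : S.ok F) :
    ∃ (F' : C) (j : F' ⟶ E), Mono j ∧ S.ok F' ∧ (∃ φ : F ⟶ F', φ ≫ j = i) ∧
      alpha d (S.hp F') = alpha d (S.hp F) ∧ 0 ≤ (S.hp F' - S.hp F).leadingCoeff ∧
      S.Pure (cokernel j) d := by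
  let A : Subobject E := Subobject.mk i
  have hA : S.ok (A : C) := S.ok_iso (Subobject.underlyingIso i).symm hF
  have eA : S.hp (A : C) = S.hp F := S.hp_iso (Subobject.underlyingIso i).symm hF
  let T := S.lat hE.1 d hE.2.1
  haveI : WellFoundedGT {D : Subobject E // S.ok (D : C)} := S.noeth hE.1
  obtain ⟨⟨D, hD⟩, ⟨hAD, hα⟩, hmax⟩ := (wellFounded_gt (α := {D : Subobject E // S.ok (D : C)})).has_min
    {D | A ≤ D.1 ∧ alpha d (S.hp (D.1 : C)) = alpha d (S.hp F)} ⟨⟨A, hA⟩, le_rfl, by rw [eA]⟩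
  refine ⟨(D : C), D.arrow, inferInstance, hD,
    ⟨(Subobject.underlyingIso i).inv ≫ Subobject.ofLE A D hAD, by simp [A]⟩, hα, ?_, ?_⟩
  · have := T.lc_nonneg hA hD hAD
    change 0 ≤ (S.hp (D : C) - S.hp (A : C)).leadingCoeff at this
    rwa [eA] at this
  · have hQ := S.ok_coker D.arrow hD hE.1
    have hdeg := ((S.deg_mono D.arrow hD hE.1).2).trans hE.2.1
    refine ⟨hQ, hdeg, fun H h hh hH h0 => ?_⟩
    let e : cokernel D.arrow ≅ cokernel (Subobject.ofLE D ⊤ le_top) :=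
      cokernel.mapIso _ _ (Iso.refl _) (asIso (⊤ : Subobject E).arrow).symm (by simp [IsIso.eq_comp_inv])
    obtain ⟨D', hD', hDD', -, he⟩ := S.exists_sub_of_quot (le_top : D ≤ ⊤) hD (S.ok_top_sub hE.1) (h ≫ e.hom) hH
    have hlt : D < D' := lt_of_le_of_ne hDD' fun hd => h0 <| S.isZero_of_hp hH (by rw [he, hd, sub_self])
    refine lt_of_le_of_ne (alpha_nonneg ((S.deg_mono h hH hQ).1.trans hdeg) (S.lc_nonneg hH)) fun ha => ?_
    refine hmax ⟨D', hD'⟩ ⟨hAD.trans hlt.le, ?_⟩ hlt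
    have hD'e : S.hp (D' : C) = S.hp (D : C) + S.hp H := by rw [he]; abel
    rw [hD'e, alpha_add, ← ha, add_zero]; exact hα

theorem SS.quot_top {d : ℕ} {D : Subobject E} (hd : (S.hp E).natDegree ≤ d) (hE : S.ok E)
    (hD : S.ok (D : C)) : S.hp (cokernel (Subobject.ofLE D ⊤ le_top)) = S.hp E - S.hp (D : C) := by
  rw [S.q_ofLE (le_top : D ≤ ⊤) hD (S.ok_top_sub hE), S.hp_top_sub hE]

/-- Semistable objects have Jordan-Hölder filtrations. -/
theorem exists_jh {d ℓ : ℕ} (hℓ : ℓ = d) (hE : S.SS d ℓ E) (h0 : ¬ IsZero E) :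
    ∃ s : LTSeries (Subobject E), s.head = ⊥ ∧ s.last = ⊤ ∧ ∀ i : Fin s.length,
      S.St d ℓ (factor s i) ∧ RedEq d (S.hp (factor s i)) (S.hp E) := by
  subst hℓ
  let T := S.lat hE.1.1 ℓ hE.1.2.1
  let p := S.hp E
  have hp0 : 0 < alpha ℓ p := hE.1.alpha_pos h0
  have hpd : p.natDegree ≤ ℓ := hE.1.2.1
  haveI : WellFoundedGT {D : Subobject E // S.ok (D : C)} := S.noeth hE.1.1
  have key : ∀ A : {D : Subobject E // S.ok (D : C)},
      (A.1 < ⊤ → T.SS ℓ A.1 ⊤ ∧ RedEq ℓ (T.q A.1 ⊤) p) →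
      ∃ s : LTSeries (Subobject E), s.head = A.1 ∧ s.last = ⊤ ∧ (∀ j, S.ok ((s j : Subobject E) : C)) ∧
        ∀ i : Fin s.length, S.St ℓ ℓ (factor s i) ∧ RedEq ℓ (S.hp (factor s i)) p := by
    intro A
    induction A using (wellFounded_gt (α := {D : Subobject E // S.ok (D : C)})).induction with
    | h A IH =>
    intro hA
    by_cases htop : A.1 = ⊤
    · exact ⟨RelSeries.singleton _ A.1, rfl, htop, fun _ => A.2, fun i => i.elim0⟩
    have hlt : A.1 < ⊤ := lt_of_le_of_ne le_top htop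
    obtain ⟨⟨hpure, hle⟩, heq⟩ := hA hlt
    have hdeg : ∀ {a b : Subobject E}, S.ok (a : C) → S.ok (b : C) → a ≤ b → (T.q a b).natDegree ≤ ℓ :=
      fun ha hb h => T.deg_le ha hb h
    classical
    have hex : ∃ n : ℕ, ∃ B : {D : Subobject E // S.ok (D : C)}, A.1 < B.1 ∧ RedEq ℓ (T.q A.1 B.1) p ∧
        T.α A.1 B.1 = n := by
      obtain ⟨n, hn⟩ := T.alphaNat A.1 ⊤ A.2 T.ok_top le_top
      exact ⟨n, ⟨⊤, T.ok_top⟩, hlt, heq, hn⟩
    obtain ⟨B, hAB, hBeq, hBn⟩ := Nat.find_spec hex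
    have hBpos : 0 < T.α A.1 B.1 := hpure B.1 B.2 hAB le_top
    have hBle : ∀ D : Subobject E, S.ok (D : C) → A.1 < D → D ≤ B.1 → RedLE ℓ (T.q A.1 D) (T.q A.1 B.1) := by
      intro D hD hAD _
      have h1 : RedLE ℓ (T.q A.1 D) (T.q A.1 ⊤) := by
        have := hle D hD hAD le_top
        exact (le_self_iff (hdeg A.2 hD hAD.le) (hdeg A.2 T.ok_top le_top)).mp this
      exact ShStab28.redLE_trans (hpure D hD hAD le_top).le (hpure ⊤ T.ok_top hlt le_rfl) hBpos.le h1
        (redEq_le (ShStab28.redEq_trans (hpure ⊤ T.ok_top hlt le_rfl).le hp0 hBpos.le heq (redEq_symm hBeq)))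
    have hSSB : T.SS ℓ A.1 B.1 := ⟨fun D hD hAD hDB => hpure D hD hAD le_top, fun D hD hAD hDB => by
      exact (le_self_iff (hdeg A.2 hD hAD.le) (hdeg A.2 B.2 hAB.le)).mpr (hBle D hD hAD hDB)⟩
    have hF := (S.ss_interval_iff hAB A.2 B.2).mp hSSB
    have hFhp : S.hp (cokernel (Subobject.ofLE A.1 B.1 hAB.le)) = T.q A.1 B.1 := S.q_ofLE hAB.le A.2 B.2
    have hSt : S.St ℓ ℓ (cokernel (Subobject.ofLE A.1 B.1 hAB.le)) := by
      refine ⟨hF.1, fun H j hj hH hH0 hni => ?_⟩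
      obtain ⟨D, hD, hAD, hDB, he⟩ := S.exists_sub_of_quot hAB.le A.2 B.2 j hH
      have he' : S.hp H = T.q A.1 D := he
      have hAD' : A.1 < D := lt_of_le_of_ne hAD fun e => hH0 <| S.isZero_of_hp hH (by rw [he, e, sub_self])
      rw [hFhp, he', lt_self_iff (hdeg A.2 hD hAD) (hdeg A.2 B.2 hAB.le)]
      refine (redLE_lt_or_eq (hBle D hD hAD' hDB)).resolve_right fun hEq => hni ?_
      obtain ⟨n, hn⟩ := T.alphaNat A.1 D A.2 hD hAD
      have hEqp : RedEq ℓ (T.q A.1 D) p :=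
        ShStab28.redEq_trans (hpure D hD hAD' le_top).le hBpos hp0.le hEq hBeq
      have hmin : Nat.find hex ≤ n := Nat.find_min' hex ⟨⟨D, hD⟩, hAD', hEqp, hn⟩
      have hge : T.α A.1 B.1 ≤ T.α A.1 D := by
        rw [hBn, show T.α A.1 D = n from hn]; exact_mod_cast hmin
      have hsum := T.α_add A.1 D B.1
      have hnn := T.α_nonneg hD B.2 hDB
      have heα : T.α A.1 D = T.α A.1 B.1 := by linarith
      refine S.isIso_of_hp j hH (S.ok_coker _ A.2 B.2) ?_
      rw [he', hFhp]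
      exact eq_of_redEq_alpha hEq heα (hpure D hD hAD' le_top).ne'
    have hB : B.1 < ⊤ → T.SS ℓ B.1 ⊤ ∧ RedEq ℓ (T.q B.1 ⊤) p := by
      intro hBt
      have hsplit : T.q A.1 ⊤ = T.q A.1 B.1 + T.q B.1 ⊤ := (T.q_add _ _ _).symm
      have hAt := hpure ⊤ T.ok_top hlt le_rfl
      have hα : ∀ C' : Subobject E, S.ok (C' : C) → B.1 < C' → 0 < T.α B.1 C' := by
        intro C' hC' hBC
        refine lt_of_le_of_ne (T.α_nonneg B.2 hC' hBC.le) fun h0' => ?_
        have h1 : RedLE ℓ (T.q A.1 C') (T.q A.1 ⊤) := by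
          have := hle C' hC' (hAB.trans hBC) le_top
          exact (le_self_iff (hdeg A.2 hC' (hAB.trans hBC).le) (hdeg A.2 T.ok_top le_top)).mp this
        have h2 : RedLE ℓ (T.q A.1 C') (T.q A.1 B.1) :=
          ShStab28.redLE_trans (hpure C' hC' (hAB.trans hBC) le_top).le hAt hBpos.le h1
            (redEq_le (ShStab28.redEq_trans hAt.le hp0 hBpos.le heq (redEq_symm hBeq)))
        rw [← T.q_add A.1 B.1 C'] at h2
        exact redLT_iff_not_redLE.mp (redLT_self_add hBpos (T.pos _ _ B.2 hC' hBC) h0'.symm) h2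
      have hBt' := hα ⊤ T.ok_top hBt
      have hAeq : RedEq ℓ (T.q A.1 B.1) (T.q B.1 ⊤) :=
        redEq_add_left.mp (hsplit ▸ ShStab28.redEq_trans hBpos.le hp0 hAt.le hBeq (redEq_symm heq))
      refine ⟨⟨fun C' hC' hBC _ => hα C' hC' hBC, fun C' hC' hBC _ => ?_⟩,
        ShStab28.redEq_trans hBt'.le hBpos hp0.le (redEq_symm hAeq) hBeq⟩
      refine (le_self_iff (hdeg B.2 hC' hBC.le) (hdeg B.2 T.ok_top le_top)).mpr ?_
      refine ShStab28.redLE_trans (hα C' hC' hBC).le hBpos hBt'.le ?_ (redEq_le hAeq)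
      have h1 := (le_self_iff (hdeg A.2 hC' (hAB.trans hBC).le) (hdeg A.2 T.ok_top le_top)).mp
        (hle C' hC' (hAB.trans hBC) le_top)
      rw [← redLE_add_right, add_comm, T.q_add]
      exact ShStab28.redLE_trans (hpure C' hC' (hAB.trans hBC) le_top).le hAt hBpos.le h1
        (redEq_le (ShStab28.redEq_trans hAt.le hp0 hBpos.le heq (redEq_symm hBeq)))
    obtain ⟨s, hsh, hsl, hsok, hs⟩ := IH B hAB hB
    refine ⟨consSeries s A.1 (by rw [hsh]; exact hAB), rfl, ?_, ?_, ?_⟩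
    · show (consSeries s A.1 _).toFun (Fin.last _) = ⊤
      exact hsl
    · exact Fin.cases A.2 hsok
    · refine Fin.cases ?_ hs
      have hc : ∀ (B' : Subobject E) (hB' : A.1 ≤ B'), B' = B.1 →
          S.St ℓ ℓ (cokernel (Subobject.ofLE A.1 B' hB')) ∧ RedEq ℓ (S.hp (cokernel (Subobject.ofLE A.1 B' hB'))) p := by
        rintro B' hB' rfl
        exact ⟨hSt, by rw [hFhp]; exact hBeq⟩
      exact hc s.head _ hsh
  obtain ⟨s, hsh, hsl, -, hs⟩ := key ⟨⊥, S.ok_bot_sub E⟩ fun hlt => by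
    have hq : T.q ⊥ ⊤ = p := by
      show S.hp _ - S.hp _ = p
      rw [S.hp_bot_sub, sub_zero, S.hp_top_sub hE.1.1]
    refine ⟨⟨S.lat_pure_bot hE.1, fun D hD hlt' _ => ?_⟩, by rw [hq]; rfl⟩
    show Le ℓ ℓ (T.q ⊥ D) (T.q ⊥ ⊤)
    rw [hq, show T.q ⊥ D = S.hp (D : C) by show S.hp _ - S.hp _ = _; rw [S.hp_bot_sub, sub_zero]]
    refine hE.2 _ D.arrow inferInstance hD fun hz => ?_
    have := T.pos ⊥ D T.ok_bot hD hlt'
    rw [show T.f D - T.f ⊥ = 0 by show S.hp _ - S.hp _ = _; rw [S.hp_bot_sub, sub_zero, S.hp_zero hz],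
      Polynomial.leadingCoeff_zero] at this
    exact lt_irrefl _ this
  exact ⟨s, hsh, hsl, hs⟩

theorem le_of_decreasing {d ℓ n : ℕ} (P : Fin n → ℚ[X]) (hpos : ∀ i, 0 < alpha d (P i))
    (h : ∀ i j : Fin n, i.val + 1 = j.val → Lt d ℓ (P j) (P i)) :
    ∀ (j i : Fin n), i ≤ j → Le d ℓ (P j) (P i) := by
  rintro ⟨j, hj⟩
  induction j with
  | zero =>
    intro i hi
    obtain rfl : i = ⟨0, hj⟩ := le_antisymm hi (Nat.zero_le i.val)
    exact le_refl' _
  | succ j ih =>
    intro i hi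
    by_cases he : i = ⟨j + 1, hj⟩
    · subst he; exact le_refl' _
    · have hi' : i ≤ ⟨j, by omega⟩ := by
        have h1 : i.val ≤ j + 1 := hi
        have h2 : i.val ≠ j + 1 := fun e => he (Fin.ext e)
        show i.val ≤ j
        omega
      exact ShStab28.le_trans' (hpos _).le (hpos ⟨j, by omega⟩) (hpos _).le
        (ShStab28.le_of_lt (h ⟨j, by omega⟩ ⟨j + 1, hj⟩ rfl)) (ih (by omega) i hi')

end Groth.Agent.ShStab28.Sys
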