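import Groth.Agent.Lib.ShStab28.Sheaf
import Groth.Agent.Lib.ShStab28.Filt

/-!
# The predicates of `ShStab` through the system of coherent modules
-/

set_option autoImplicit false
set_option linter.style.haveILetI false
set_option maxHeartbeats 1000000

universe u

open CategoryTheory CategoryTheory.Limits AlgebraicGeometry TopologicalSpace StabCat

noncomputable section

namespace Groth.Agent.ShStab28

open Groth.Agent

variable {k : Type u} [Field k] {X : Scheme.{u}} [X.Over (Spec (CommRingCat.of k))]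
  [IsProper (X ↘ Spec (CommRingCat.of k))] {L : X.Modules} (hL : PicF.IsInvertible L)
  (hpos : IsPositive k X L) {d ℓ : ℕ} {E : X.Modules}

include hL hpos

local notation "𝕊" => sys k X L hL hpos
local notation "H" => hilb k X L

omit hpos in
theorem hp_iff {F : X.Modules} (hF : Coh.IsCoh F) {P : Polynomial ℚ} :
    ShStab.IsHilbPoly k X L F P ↔ P = hilb k X L F :=
  isHilbPoly_iff k hL hF

theorem pure_of_isPure (hE : Coh.IsCoh E) (h : ShStab.IsPure X E d) : Sys.Pure 𝕊 E d := by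
  refine ⟨hE, ?_, fun F i hi hF h0 => ?_⟩
  · by_cases h0 : IsZero E
    · show (hilb k X L E).natDegree ≤ d
      rw [show hilb k X L E = 0 from Sys.hp_zero 𝕊 h0, Polynomial.natDegree_zero]
      exact Nat.zero_le _
    · exact (hpos E hE d (h E (𝟙 E) inferInstance hE h0)).1.le
  · obtain ⟨h1, h2⟩ := hpos F hF d (h F i hi hF h0)
    exact alpha_pos h1 h2

theorem isPure_of_pure (h : Sys.Pure 𝕊 E d) : ShStab.IsPure X E d := by
  intro F i hi hF h0
  obtain ⟨e, he⟩ := exists_dim_supp k hF h0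
  obtain ⟨h1, h2⟩ := hpos F hF e he
  have hle : (hilb k X L F).natDegree ≤ d := (Sys.deg_mono 𝕊 i hF h.1).1.trans h.2.1
  have ha : 0 < alpha d (hilb k X L F) := h.2.2 F i hi hF h0
  rcases hle.lt_or_eq with hlt | heq
  · rw [alpha_eq_zero_of_lt hlt] at ha; exact absurd ha (lt_irrefl _)
  · rw [he, ← heq, h1]

theorem isSemistable_iff : ShStab.IsSemistable k X L E d ↔ ¬ IsZero E ∧ Sys.SS 𝕊 d d E := by
  constructor
  · rintro ⟨hE, h0, hp, hss⟩
    refine ⟨h0, pure_of_isPure hL hpos hE hp, fun F i hi hF hF0 => ?_⟩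
    by_cases hiso : IsIso i
    · rw [(𝕊).hp_iso (asIso i) hF]; exact le_refl' _
    · have hd := (pure_of_isPure hL hpos hE hp).2.1
      exact (le_self_iff ((Sys.deg_mono 𝕊 i hF hE).1.trans hd) hd).mpr
        (hss F i hi hF hF0 hiso _ _ (hilb_spec k hL hF) (hilb_spec k hL hE))
  · rintro ⟨h0, hp, hss⟩
    refine ⟨hp.1, h0, isPure_of_pure hL hpos hp, fun F i hi hF hF0 _ pF pE hpF hpE => ?_⟩
    rw [(hp_iff hL hF).mp hpF, (hp_iff hL hp.1).mp hpE]
    exact (le_self_iff ((Sys.deg_mono 𝕊 i hF hp.1).1.trans hp.2.1) hp.2.1).mp (hss F i hi hF hF0)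

theorem isStable_iff : ShStab.IsStable k X L E d ↔ ¬ IsZero E ∧ Sys.St 𝕊 d d E := by
  constructor
  · rintro ⟨hE, h0, hp, hst⟩
    refine ⟨h0, pure_of_isPure hL hpos hE hp, fun F i hi hF hF0 hiso => ?_⟩
    have hd := (pure_of_isPure hL hpos hE hp).2.1
    exact (lt_self_iff ((Sys.deg_mono 𝕊 i hF hE).1.trans hd) hd).mpr
      (hst F i hi hF hF0 hiso _ _ (hilb_spec k hL hF) (hilb_spec k hL hE))
  · rintro ⟨h0, hp, hst⟩
    refine ⟨hp.1, h0, isPure_of_pure hL hpos hp, fun F i hi hF hF0 hiso pF pE hpF hpE => ?_⟩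
    rw [(hp_iff hL hF).mp hpF, (hp_iff hL hp.1).mp hpE]
    exact (lt_self_iff ((Sys.deg_mono 𝕊 i hF hp.1).1.trans hp.2.1) hp.2.1).mp (hst F i hi hF hF0 hiso)

theorem isEllSemistable_iff : ShStab.IsEllSemistable k X L E d ℓ ↔ ¬ IsZero E ∧ Sys.SS 𝕊 d ℓ E := by
  constructor
  · rintro ⟨hE, h0, hp, hss⟩
    have hP := pure_of_isPure hL hpos hE hp
    refine ⟨h0, hP, fun F i hi hF hF0 => ?_⟩
    have hF' : 0 < alpha d (H F) := hP.2.2 F i hi hF hF0
    have hQ : Coh.IsCoh (cokernel i) := (𝕊).ok_coker i hF hE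
    have hdF := (Sys.deg_mono 𝕊 i hF hE).1.trans hP.2.1
    have hdQ := (Sys.deg_mono 𝕊 i hF hE).2.trans hP.2.1
    have hsum : H E = H F + H (cokernel i) := Sys.hp_mono 𝕊 i hF hE
    have hnn : 0 ≤ alpha d (H (cokernel i)) := alpha_nonneg hdQ (Sys.lc_nonneg 𝕊 hQ)
    rcases hnn.lt_or_eq with hlt | heq
    · exact hss F i hi hF _ _ (hilb_spec k hL hF) (hilb_spec k hL hE) hF' (by show alpha d (H F) < alpha d (H E); rw [hsum, alpha_add]; linarith)
    · show Le d ℓ (H F) (H E)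
      rw [hsum]
      exact le_of_alpha_eq_zero hF'.le hdF hdQ (Sys.lc_nonneg 𝕊 hQ) heq.symm
  · rintro ⟨h0, hp, hss⟩
    refine ⟨hp.1, h0, isPure_of_pure hL hpos hp, fun F i hi hF pF pE hpF hpE ha _ => ?_⟩
    rw [(hp_iff hL hF).mp hpF] at ha ⊢
    rw [(hp_iff hL hp.1).mp hpE]
    exact hss F i hi hF fun hz => by
      rw [show H F = 0 from Sys.hp_zero 𝕊 hz, alpha_zero] at ha; exact lt_irrefl _ ha

/-- Slope semistable pure modules are semistable for the one-step truncation. -/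
theorem ss_one_iff (hd : 1 ≤ d) (hP : ShStab.IsPure X E d) :
    ShStab.IsMuSemistable k X L E d ↔ ¬ IsZero E ∧ Sys.SS 𝕊 d 1 E := by
  rw [← isEllSemistable_iff hL hpos]
  constructor
  · rintro ⟨hE, h0, -, -, hmu⟩
    refine ⟨hE, h0, hP, fun F i hi hF pF pE hpF hpE ha hlt => ?_⟩
    exact (hatSlope_le_iff hd ha (ha.trans hlt)).mp (hmu F i hi hF pF pE hpF hpE ha hlt)
  · rintro ⟨hE, h0, -, hss⟩
    refine ⟨hE, h0, hP E (𝟙 E) inferInstance hE h0, fun F i hi hF hdim => ?_, fun F i hi hF pF pE hpF hpE ha hlt =>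
      (hatSlope_le_iff hd ha (ha.trans hlt)).mpr (hss F i hi hF pF pE hpF hpE ha hlt)⟩
    by_cases hF0 : IsZero F
    · haveI : IsEmpty (CohB1.support F) := Set.isEmpty_coe_sort.mpr (Set.eq_empty_of_forall_notMem fun x hx =>
        hx (AddCommGrpCat.subsingleton_of_isZero ((M1.stalkAb x).map_isZero hF0)))
      haveI : IsEmpty (IrreducibleCloseds (CohB1.support F)) :=
        ⟨fun s => IsEmpty.false (α := CohB1.support F) s.isIrreducible'.nonempty.some⟩
      rw [topologicalKrullDim, Order.krullDim_eq_bot] at hdim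
      simp at hdim
    · rw [hP F i hi hF hF0] at hdim
      have : d + 1 = d := by exact_mod_cast hdim
      omega

omit hpos in
theorem hp_inj {F : X.Modules} (hF : Coh.IsCoh F) {P Q : Polynomial ℚ} (h : ShStab.IsHilbPoly k X L F P)
    (h' : ShStab.IsHilbPoly k X L F Q) : P = Q := hilb_unique k h h'

/-- A nonzero submodule of dimension less than `d` violates the reduced inequality. -/
theorem isPure_of_forall (hE : Coh.IsCoh E) (hdim : topologicalKrullDim (CohB1.support E) = (d : WithBot ℕ∞))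
    (h : ∀ (F : X.Modules) (i : F ⟶ E), Mono i → Coh.IsCoh F → ¬ IsZero F → ¬ IsIso i →
      RedLE d (H F) (H E)) : ShStab.IsPure X E d := by
  obtain ⟨hdeg, hlc⟩ := hpos E hE d hdim
  have hEa : 0 < alpha d (H E) := alpha_pos hdeg hlc
  refine isPure_of_pure hL hpos (d := d) ⟨hE, hdeg.le, fun F i hi hF h0 => ?_⟩
  have hdF : (H F).natDegree ≤ d := (Sys.deg_mono 𝕊 i hF hE).1.trans hdeg.le
  refine lt_of_le_of_ne (alpha_nonneg hdF (Sys.lc_nonneg 𝕊 hF)) fun ha => ?_
  by_cases hiso : IsIso i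
  · rw [show H E = H F from (𝕊).hp_iso (asIso i) hF] at hEa
    exact hEa.ne ha
  · have hle : RedLE d (H F) (H E) := h F i hi hF h0 hiso
    have hpos' : 0 < (H F).leadingCoeff := (𝕊).pos hF h0
    rw [redLE_iff, redDiff, show alpha d (H F) = 0 from ha.symm, zero_smul, zero_sub, Polynomial.leadingCoeff_neg,
      Polynomial.smul_eq_C_mul, Polynomial.leadingCoeff_mul, Polynomial.leadingCoeff_C] at hle
    linarith [mul_pos hEa hpos']

theorem isHNFiltration_iff {s : LTSeries (Subobject E)} :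
    ShStab.IsHNFiltration k X L E d s ↔ s.head = ⊥ ∧ s.last = ⊤ ∧ (∀ i : Fin s.length, Sys.SS 𝕊 d d (factor s i)) ∧
      ∀ i j : Fin s.length, i.val + 1 = j.val → Lt d d (H (factor s j)) (H (factor s i)) := by
  constructor
  · rintro ⟨h1, h2, h3, h4⟩
    have h3' := fun i => ((isSemistable_iff hL hpos).mp (h3 i)).2
    exact ⟨h1, h2, h3', fun i j hij => (lt_self_iff (h3' j).1.2.1 (h3' i).1.2.1).mpr
      (h4 i j hij _ _ (hilb_spec k hL (h3' i).1.1) (hilb_spec k hL (h3' j).1.1))⟩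
  · rintro ⟨h1, h2, h3, h4⟩
    refine ⟨h1, h2, fun i => (isSemistable_iff hL hpos).mpr ⟨Sys.not_isZero_coker (s.step i), h3 i⟩,
      fun i j hij p q hp hq => ?_⟩
    rw [(hp_iff hL (h3 i).1.1).mp hp, (hp_iff hL (h3 j).1.1).mp hq]
    exact (lt_self_iff (h3 j).1.2.1 (h3 i).1.2.1).mp (h4 i j hij)

theorem isJHFiltration_iff (hE : Coh.IsCoh E) {s : LTSeries (Subobject E)} :
    ShStab.IsJHFiltration k X L E d s ↔ s.head = ⊥ ∧ s.last = ⊤ ∧
      ∀ i : Fin s.length, Sys.St 𝕊 d d (factor s i) ∧ RedEq d (H (factor s i)) (H E) := by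
  constructor
  · rintro ⟨h1, h2, h3⟩
    refine ⟨h1, h2, fun i => ?_⟩
    have := ((isStable_iff hL hpos).mp (h3 i).1).2
    exact ⟨this, (h3 i).2 _ _ (hilb_spec k hL this.1.1) (hilb_spec k hL hE)⟩
  · rintro ⟨h1, h2, h3⟩
    refine ⟨h1, h2, fun i => ⟨(isStable_iff hL hpos).mpr ⟨Sys.not_isZero_coker (s.step i), (h3 i).1⟩,
      fun p q hp hq => ?_⟩⟩
    rw [(hp_iff hL (h3 i).1.1.1).mp hp, (hp_iff hL hE).mp hq]
    exact (h3 i).2

end Groth.Agent.ShStab28
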