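import Groth.Agent.Lib.ShStab28.Lat
import Mathlib.CategoryTheory.Subobject.Lattice
import Mathlib.CategoryTheory.Abelian.Basic
import Mathlib.CategoryTheory.Abelian.Exact
import Mathlib.Algebra.Homology.ShortComplex.ShortExact
import Mathlib.CategoryTheory.Subobject.Comma

/-!
# Additive polynomial invariants on an abelian category
-/

universe w v u

open CategoryTheory CategoryTheory.Limits StabCat
open Polynomial (natDegree leadingCoeff leadingCoeff_zero)
open scoped Polynomial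

noncomputable section

namespace Groth.Agent.ShStab28

variable {C : Type u} [Category.{v} C] [Abelian C]

/-- A class of objects with an additive polynomial. -/
structure Sys (C : Type u) [Category.{v} C] [Abelian C] where
  ok : C → Prop
  hp : C → ℚ[X]
  ok_iso : ∀ {E F : C}, (E ≅ F) → ok E → ok F
  hp_iso : ∀ {E F : C}, (E ≅ F) → ok E → hp F = hp E
  ok_zero : ∀ {E : C}, IsZero E → ok E
  ok_ker : ∀ {E F : C} (f : E ⟶ F), ok E → ok F → ok (kernel f)
  ok_coker : ∀ {E F : C} (f : E ⟶ F), ok E → ok F → ok (cokernel f)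
  ok_ext : ∀ {S : ShortComplex C}, S.ShortExact → ok S.X₁ → ok S.X₃ → ok S.X₂
  hp_add : ∀ {S : ShortComplex C}, S.ShortExact → ok S.X₁ → ok S.X₂ → ok S.X₃ → hp S.X₂ = hp S.X₁ + hp S.X₃
  pos : ∀ {E : C}, ok E → ¬ IsZero E → 0 < (hp E).leadingCoeff
  alphaNat : ∀ {E : C} (d : ℕ), ok E → (hp E).natDegree ≤ d → ∃ n : ℕ, alpha d (hp E) = n
  noeth : ∀ {E : C}, ok E → WellFoundedGT {A : Subobject E // ok (A : C)}

namespace Sys

variable (S : Sys C) {E F G : C}

theorem hp_zero (hE : IsZero E) : S.hp E = 0 := by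
  have hs : (ShortComplex.mk (0 : E ⟶ E) (0 : E ⟶ E) zero_comp).ShortExact :=
    { exact := ShortComplex.exact_of_isZero_X₂ _ hE
      mono_f := ⟨fun {Z} a b _ => hE.eq_of_tgt a b⟩
      epi_g := ⟨fun {Z} a b _ => hE.eq_of_src a b⟩ }
  have h := S.hp_add hs (S.ok_zero hE) (S.ok_zero hE) (S.ok_zero hE)
  exact left_eq_add.mp h

theorem lc_nonneg (hE : S.ok E) : 0 ≤ (S.hp E).leadingCoeff := by
  by_cases h : IsZero E
  · rw [S.hp_zero h, leadingCoeff_zero]
  · exact (S.pos hE h).le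

theorem isZero_of_hp (hE : S.ok E) (h : S.hp E = 0) : IsZero E := by
  by_contra h0
  have := S.pos hE h0
  rw [h, leadingCoeff_zero] at this
  exact lt_irrefl _ this

theorem hp_mono (i : F ⟶ E) [Mono i] (hF : S.ok F) (hE : S.ok E) : S.hp E = S.hp F + S.hp (cokernel i) :=
  S.hp_add (S := ShortComplex.mk i (cokernel.π i) (cokernel.condition i))
    { exact := ShortComplex.exact_cokernel i } hF hE (S.ok_coker i hF hE)

theorem hp_epi (p : E ⟶ G) [Epi p] (hE : S.ok E) (hG : S.ok G) : S.hp E = S.hp (kernel p) + S.hp G :=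
  S.hp_add (S := ShortComplex.mk (kernel.ι p) p (kernel.condition p))
    { exact := ShortComplex.exact_kernel p } (S.ok_ker p hE hG) hE hG

theorem ok_image (f : F ⟶ E) (hF : S.ok F) (hE : S.ok E) : S.ok (Abelian.image f) :=
  S.ok_ker _ hE (S.ok_coker f hF hE)

theorem isIso_of_hp (i : F ⟶ E) [Mono i] (hF : S.ok F) (hE : S.ok E) (h : S.hp F = S.hp E) : IsIso i := by
  have h0 : IsZero (cokernel i) := S.isZero_of_hp (S.ok_coker i hF hE)
    (add_eq_left.mp ((S.hp_mono i hF hE).symm.trans h.symm))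
  haveI : Epi i := Preadditive.epi_of_cokernel_zero (h0.eq_of_tgt _ _)
  exact isIso_of_mono_of_epi i

theorem isIso_of_hp_epi (p : E ⟶ G) [Epi p] (hE : S.ok E) (hG : S.ok G) (h : S.hp G = S.hp E) : IsIso p := by
  have h0 : IsZero (kernel p) := S.isZero_of_hp (S.ok_ker p hE hG)
    (add_eq_right.mp ((S.hp_epi p hE hG).symm.trans h.symm))
  haveI : Mono p := Preadditive.mono_of_kernel_zero (h0.eq_of_src _ _)
  exact isIso_of_mono_of_epi p

theorem deg_mono (i : F ⟶ E) [Mono i] (hF : S.ok F) (hE : S.ok E) :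
    (S.hp F).natDegree ≤ (S.hp E).natDegree ∧ (S.hp (cokernel i)).natDegree ≤ (S.hp E).natDegree := by
  rw [S.hp_mono i hF hE]
  exact natDegree_le_of_add (S.lc_nonneg hF) (S.lc_nonneg (S.ok_coker i hF hE))

theorem deg_epi (p : E ⟶ G) [Epi p] (hE : S.ok E) (hG : S.ok G) :
    (S.hp (kernel p)).natDegree ≤ (S.hp E).natDegree ∧ (S.hp G).natDegree ≤ (S.hp E).natDegree := by
  rw [S.hp_epi p hE hG]
  exact natDegree_le_of_add (S.lc_nonneg (S.ok_ker p hE hG)) (S.lc_nonneg hG)

/-- Of degree at most `d`, with all nonzero subobjects of full degree. -/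
def Pure (E : C) (d : ℕ) : Prop :=
  S.ok E ∧ (S.hp E).natDegree ≤ d ∧ ∀ (F : C) (i : F ⟶ E), Mono i → S.ok F → ¬ IsZero F → 0 < alpha d (S.hp F)

variable {S} in
theorem Pure.alpha_pos {d : ℕ} (h : S.Pure E d) (h0 : ¬ IsZero E) : 0 < alpha d (S.hp E) :=
  h.2.2 E (𝟙 E) inferInstance h.1 h0

variable {S} in
theorem Pure.sub {d : ℕ} (h : S.Pure E d) (i : F ⟶ E) [Mono i] (hF : S.ok F) : S.Pure F d :=
  ⟨hF, (S.deg_mono i hF h.1).1.trans h.2.1, fun G j _ hG hG0 => h.2.2 G (j ≫ i) inferInstance hG hG0⟩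

/-- Semistability for `ℓ`-truncated comparisons. -/
def SS (d ℓ : ℕ) (E : C) : Prop :=
  S.Pure E d ∧ ∀ (F : C) (i : F ⟶ E), Mono i → S.ok F → ¬ IsZero F → Le d ℓ (S.hp F) (S.hp E)

/-- Stability for `ℓ`-truncated comparisons. -/
def St (d ℓ : ℕ) (E : C) : Prop :=
  S.Pure E d ∧ ∀ (F : C) (i : F ⟶ E), Mono i → S.ok F → ¬ IsZero F → ¬ IsIso i → Lt d ℓ (S.hp F) (S.hp E)

variable {S} in
theorem St.ss {d ℓ : ℕ} (h : S.St d ℓ E) : S.SS d ℓ E := by
  refine ⟨h.1, fun F i hi hF h0 => ?_⟩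
  by_cases hiso : IsIso i
  · rw [S.hp_iso (asIso i) hF]; exact le_refl' _
  · exact le_of_lt (h.2 F i hi hF h0 hiso)

variable {S} in
theorem SS.quot {d ℓ : ℕ} (h : S.SS d ℓ E) (p : E ⟶ G) [Epi p] (hG : S.ok G) : Le d ℓ (S.hp E) (S.hp G) := by
  have hE := h.1.1
  have e := S.hp_epi p hE hG
  by_cases h0 : IsZero (kernel p)
  · rw [e, S.hp_zero h0, zero_add]; exact le_refl' _
  · have := h.2 (kernel p) (kernel.ι p) inferInstance (S.ok_ker p hE hG) h0
    rw [e, le_add_left_iff] at this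
    rw [e, le_add_right_iff]
    exact this

variable {S} in
theorem St.quot {d ℓ : ℕ} (h : S.St d ℓ E) (p : E ⟶ G) [Epi p] (hG : S.ok G) (hG0 : ¬ IsZero G) (hp : ¬ IsIso p) :
    Lt d ℓ (S.hp E) (S.hp G) := by
  have hE := h.1.1
  have e := S.hp_epi p hE hG
  have h0 : ¬ IsZero (kernel p) := fun hz => hp <| S.isIso_of_hp_epi p hE hG (by rw [e, S.hp_zero hz, zero_add])
  have hni : ¬ IsIso (kernel.ι p) := fun hi => hG0 <| S.isZero_of_hp hG <| by
    haveI := hi
    rw [S.hp_iso (asIso (kernel.ι p)) (S.ok_ker p hE hG)] at e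
    exact add_eq_left.mp e.symm
  have := h.2 (kernel p) (kernel.ι p) inferInstance (S.ok_ker p hE hG) h0 hni
  rw [e, lt_add_left_iff] at this
  rw [e, lt_add_right_iff]
  exact this

theorem image_ne_zero {f : F ⟶ E} (hf : f ≠ 0) : ¬ IsZero (Abelian.image f) := fun h => hf <| by
  rw [← Abelian.image.fac f, h.eq_of_tgt (Abelian.factorThruImage f) 0, zero_comp]

theorem mono_of_image (f : F ⟶ E) [IsIso (Abelian.factorThruImage f)] : Mono f := by
  rw [← Abelian.image.fac f]; infer_instance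

theorem epi_of_image (f : F ⟶ E) [IsIso (Abelian.image.ι f)] : Epi f := by
  rw [← Abelian.image.fac f]; infer_instance

theorem le_of_hom {d ℓ : ℕ} (hF : S.SS d ℓ F) (hE : S.SS d ℓ E) {f : F ⟶ E} (hf : f ≠ 0) :
    Le d ℓ (S.hp F) (S.hp E) := by
  have hI := S.ok_image f hF.1.1 hE.1.1
  have hI0 := image_ne_zero hf
  refine le_trans' (alpha_nonneg hF.1.2.1 (S.lc_nonneg hF.1.1)) (hE.1.2.2 _ (Abelian.image.ι f) inferInstance hI hI0)
    (alpha_nonneg hE.1.2.1 (S.lc_nonneg hE.1.1)) (hF.quot (Abelian.factorThruImage f) hI)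
    (hE.2 _ (Abelian.image.ι f) inferInstance hI hI0)

theorem mono_of_stable {d ℓ : ℕ} (hF : S.St d ℓ F) (hE : S.SS d ℓ E) (hle : Le d ℓ (S.hp E) (S.hp F)) {f : F ⟶ E}
    (hf : f ≠ 0) : Mono f := by
  have hI := S.ok_image f hF.1.1 hE.1.1
  have hI0 := image_ne_zero hf
  haveI : IsIso (Abelian.factorThruImage f) := by
    by_contra hni
    refine not_le_iff.mpr (hF.quot (Abelian.factorThruImage f) hI hI0 hni) ?_
    have hE0 : ¬ IsZero E := fun h => hf (h.eq_of_tgt _ _)
    exact le_trans' (hE.1.2.2 _ (Abelian.image.ι f) inferInstance hI hI0).le (hE.1.alpha_pos hE0)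
      (alpha_nonneg hF.1.2.1 (S.lc_nonneg hF.1.1)) (hE.2 _ (Abelian.image.ι f) inferInstance hI hI0) hle
  exact mono_of_image f

theorem epi_of_stable {d ℓ : ℕ} (hF : S.SS d ℓ F) (hE : S.St d ℓ E) (hle : Le d ℓ (S.hp E) (S.hp F)) {f : F ⟶ E}
    (hf : f ≠ 0) : Epi f := by
  have hI := S.ok_image f hF.1.1 hE.1.1
  have hI0 := image_ne_zero hf
  haveI : IsIso (Abelian.image.ι f) := by
    by_contra hni
    refine not_le_iff.mpr (hE.2 _ (Abelian.image.ι f) inferInstance hI hI0 hni) ?_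
    have hF0 : ¬ IsZero F := fun h => hf (h.eq_of_src _ _)
    exact le_trans' (alpha_nonneg hE.1.2.1 (S.lc_nonneg hE.1.1)) (hF.1.alpha_pos hF0)
      (hE.1.2.2 _ (Abelian.image.ι f) inferInstance hI hI0).le hle (hF.quot (Abelian.factorThruImage f) hI)
  exact epi_of_image f

/-! ### The lattice of subobjects -/

theorem hp_of_ker {A X Y : C} (a : A ⟶ X) [Mono a] (g : X ⟶ Y) [Epi g] (w : a ≫ g = 0)
    (hfac : ∀ {T : C} (t : T ⟶ X), t ≫ g = 0 → ∃ l, l ≫ a = t) (hX : S.ok X) (hY : S.ok Y) :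
    S.hp X = S.hp A + S.hp Y := by
  obtain ⟨l, hl⟩ := hfac (kernel.ι g) (kernel.condition g)
  let e : kernel g ≅ A :=
    { hom := l
      inv := kernel.lift g a w
      hom_inv_id := by rw [← cancel_mono (kernel.ι g), Category.assoc, kernel.lift_ι, hl, Category.id_comp]
      inv_hom_id := by rw [← cancel_mono a, Category.assoc, hl, kernel.lift_ι, Category.id_comp] }
  rw [S.hp_epi g hX hY, ← S.hp_iso e (S.ok_ker g hX hY)]

theorem ok_bot_sub (E : C) : S.ok ((⊥ : Subobject E) : C) := S.ok_zero <| by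
  refine (IsZero.iff_id_eq_zero _).mpr ?_
  rw [← cancel_mono (⊥ : Subobject E).arrow]
  simp

theorem ok_top_sub (hE : S.ok E) : S.ok ((⊤ : Subobject E) : C) :=
  S.ok_iso (asIso (⊤ : Subobject E).arrow).symm hE

theorem hp_top_sub (hE : S.ok E) : S.hp ((⊤ : Subobject E) : C) = S.hp E :=
  S.hp_iso (asIso (⊤ : Subobject E).arrow).symm hE

theorem hp_bot_sub (E : C) : S.hp ((⊥ : Subobject E) : C) = 0 := S.hp_zero <| by
  refine (IsZero.iff_id_eq_zero _).mpr ?_
  rw [← cancel_mono (⊥ : Subobject E).arrow]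
  simp

theorem ok_biprod (A B : C) (hA : S.ok A) (hB : S.ok B) : S.ok (A ⊞ B) ∧ S.hp (A ⊞ B) = S.hp A + S.hp B := by
  have hs : (ShortComplex.mk (biprod.inl : A ⟶ A ⊞ B) biprod.snd biprod.inl_snd).ShortExact :=
    (ShortComplex.Splitting.ofHasBinaryBiproduct A B).shortExact
  have h := S.ok_ext hs hA hB
  exact ⟨h, S.hp_add hs hA h hB⟩

/-- Inclusion-exclusion for subobjects. -/
theorem modular_sub (hE : S.ok E) (A B : Subobject E) (hA : S.ok (A : C)) (hB : S.ok (B : C)) :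
    S.ok ((A ⊔ B : Subobject E) : C) ∧ S.ok ((A ⊓ B : Subobject E) : C) ∧
      S.hp ((A ⊔ B : Subobject E) : C) + S.hp ((A ⊓ B : Subobject E) : C) = S.hp (A : C) + S.hp (B : C) := by
  obtain ⟨hAB, hAB'⟩ := S.ok_biprod _ _ hA hB
  let φ : (A : C) ⊞ (B : C) ⟶ E := biprod.desc A.arrow (-B.arrow)
  let I : Subobject E := Subobject.mk (Abelian.image.ι φ)
  have hI : A ⊔ B = I := by
    refine le_antisymm (sup_le ?_ ?_) ?_
    · refine Subobject.le_mk_of_comm (biprod.inl ≫ Abelian.factorThruImage φ) ?_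
      rw [Category.assoc, Abelian.image.fac, biprod.inl_desc]
    · refine Subobject.le_mk_of_comm (-(biprod.inr ≫ Abelian.factorThruImage φ)) ?_
      rw [Preadditive.neg_comp, Category.assoc, Abelian.image.fac, biprod.inr_desc, neg_neg]
    · let β : (A : C) ⊞ (B : C) ⟶ ((A ⊔ B : Subobject E) : C) :=
        biprod.desc (Subobject.ofLE A _ le_sup_left) (-Subobject.ofLE B _ le_sup_right)
      have hβ : φ = β ≫ (A ⊔ B).arrow := by
        refine biprod.hom_ext' _ _ ?_ ?_ <;> simp [φ, β]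
      have hz : Abelian.image.ι φ ≫ cokernel.π (A ⊔ B).arrow = 0 := by
        rw [← cancel_epi (Abelian.factorThruImage φ), ← Category.assoc, Abelian.image.fac, hβ, Category.assoc,
          cokernel.condition, comp_zero, comp_zero]
      exact Subobject.mk_le_of_comm
        ((Abelian.monoIsKernelOfCokernel _ (cokernelIsCokernel (A ⊔ B).arrow)).lift (KernelFork.ofι _ hz))
        ((Abelian.monoIsKernelOfCokernel _ (cokernelIsCokernel (A ⊔ B).arrow)).fac _ WalkingParallelPair.zero)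
  have hIok := S.ok_image φ hAB hE
  have hsupok : S.ok ((A ⊔ B : Subobject E) : C) := by
    rw [hI]; exact S.ok_iso (Subobject.underlyingIso _).symm hIok
  have hsup : S.hp ((A ⊔ B : Subobject E) : C) = S.hp (Abelian.image φ) := by
    rw [hI]; exact S.hp_iso (Subobject.underlyingIso _).symm hIok
  let ψ := biprod.lift (Subobject.ofLE _ A (inf_le_left : A ⊓ B ≤ A)) (Subobject.ofLE _ B (inf_le_right : A ⊓ B ≤ B))
  have hψm : Mono ψ := by
    exact mono_of_mono_fac (show ψ ≫ biprod.fst = Subobject.ofLE _ A (inf_le_left : A ⊓ B ≤ A) from biprod.lift_fst _ _)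
  have hfac : ∀ {T : C} (t : T ⟶ (A : C) ⊞ (B : C)), t ≫ φ = 0 → ∃ l, l ≫ ψ = t := by
    intro T t ht
    have e : (t ≫ biprod.fst) ≫ A.arrow = (t ≫ biprod.snd) ≫ B.arrow := by
      have : t ≫ φ = (t ≫ biprod.fst) ≫ A.arrow - (t ≫ biprod.snd) ≫ B.arrow := by
        simp [φ, biprod.desc_eq, Preadditive.comp_add, sub_eq_add_neg]
      exact sub_eq_zero.mp (this.symm.trans ht)
    have hf : (A ⊓ B).Factors ((t ≫ biprod.fst) ≫ A.arrow) := (Subobject.inf_factors _).mpr
      ⟨Subobject.factors_comp_arrow _, e ▸ Subobject.factors_comp_arrow _⟩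
    refine ⟨(A ⊓ B).factorThru _ hf, biprod.hom_ext _ _ ?_ ?_⟩
    · rw [← cancel_mono A.arrow]; simp [ψ]
    · rw [← cancel_mono B.arrow, ← e]; simp [ψ]
  have hIw : ψ ≫ φ = 0 := by simp [ψ, φ]
  obtain ⟨l, hl⟩ := hfac (kernel.ι φ) (kernel.condition φ)
  let e : kernel φ ≅ ((A ⊓ B : Subobject E) : C) :=
    { hom := l
      inv := kernel.lift φ ψ hIw
      hom_inv_id := by rw [← cancel_mono (kernel.ι φ), Category.assoc, kernel.lift_ι, hl, Category.id_comp]
      inv_hom_id := by rw [← cancel_mono ψ, Category.assoc, hl, kernel.lift_ι, Category.id_comp] }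
  have hinfok : S.ok ((A ⊓ B : Subobject E) : C) := S.ok_iso e (S.ok_ker φ hAB hE)
  refine ⟨hsupok, hinfok, ?_⟩
  have := S.hp_of_ker ψ (Abelian.factorThruImage φ)
    (by rw [← cancel_mono (Abelian.image.ι φ), Category.assoc, Abelian.image.fac, hIw, zero_comp])
    (fun t ht => hfac t (by rw [← Abelian.image.fac φ, ← Category.assoc, ht, zero_comp])) hAB hIok
  rw [hsup, ← hAB', this, add_comm]

theorem q_ofLE {A B : Subobject E} (h : A ≤ B) (hA : S.ok (A : C)) (hB : S.ok (B : C)) :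
    S.hp (cokernel (Subobject.ofLE A B h)) = S.hp (B : C) - S.hp (A : C) := by
  rw [S.hp_mono (Subobject.ofLE A B h) hA hB, add_sub_cancel_left]

/-- The lattice system of subobjects of an object. -/
def lat (hE : S.ok E) (d : ℕ) (hd : (S.hp E).natDegree ≤ d) : LatSys (Subobject E) where
  ok A := S.ok (A : C)
  f A := S.hp (A : C)
  d := d
  ok_bot := S.ok_bot_sub E
  ok_top := S.ok_top_sub hE
  ok_sup A B hA hB := (S.modular_sub hE A B hA hB).1
  ok_inf A B hA hB := (S.modular_sub hE A B hA hB).2.1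
  modular A B hA hB := (S.modular_sub hE A B hA hB).2.2
  pos A B hA hB h := by
    rw [← S.q_ofLE h.le hA hB]
    refine S.pos (S.ok_coker _ hA hB) fun hz => h.not_ge ?_
    haveI : Epi (Subobject.ofLE A B h.le) := Preadditive.epi_of_cokernel_zero (hz.eq_of_tgt _ _)
    haveI := isIso_of_mono_of_epi (Subobject.ofLE A B h.le)
    exact Subobject.le_of_comm (inv (Subobject.ofLE A B h.le)) (by simp)
  deg := by rw [S.hp_bot_sub, sub_zero, S.hp_top_sub hE]; exact hd
  alphaNat A B hA hB h := by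
    rw [← S.q_ofLE h hA hB]
    refine S.alphaNat d (S.ok_coker _ hA hB) (((S.deg_mono _ hA hB).2).trans ?_)
    exact (S.deg_mono B.arrow hB hE).1.trans hd
  wf := S.noeth hE

variable {hE : S.ok E} {d : ℕ} {hd : (S.hp E).natDegree ≤ d}

theorem lat_pure_bot (h : S.Pure E d) : (S.lat hE d hd).Pure ⊥ ⊤ := by
  intro A hA hlt _
  show 0 < alpha d (S.hp (A : C) - S.hp ((⊥ : Subobject E) : C))
  rw [S.hp_bot_sub, sub_zero]
  refine h.2.2 _ A.arrow inferInstance hA fun hz => hlt.not_ge (le_of_eq ?_)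
  rw [← Subobject.mk_arrow A]
  exact le_bot_iff.mp (Subobject.mk_le_of_comm (0 : (A : C) ⟶ ((⊥ : Subobject E) : C)) (hz.eq_of_src _ _))

/-- Subobjects of a subquotient come from intermediate subobjects. -/
theorem exists_sub_of_quot {A B : Subobject E} (h : A ≤ B) (hA : S.ok (A : C)) (hB : S.ok (B : C)) {F : C}
    (i : F ⟶ cokernel (Subobject.ofLE A B h)) [Mono i] (hF : S.ok F) :
    ∃ D : Subobject E, S.ok (D : C) ∧ A ≤ D ∧ D ≤ B ∧ S.hp F = S.hp (D : C) - S.hp (A : C) := by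
  set π := cokernel.π (Subobject.ofLE A B h)
  have hw : (Subobject.ofLE A B h) ≫ π = (0 : (A : C) ⟶ F) ≫ i := by rw [zero_comp]; exact cokernel.condition _
  let a : (A : C) ⟶ pullback π i := pullback.lift _ _ hw
  haveI : Mono a := mono_of_mono_fac (pullback.lift_fst _ _ hw)
  have hfac : ∀ {T : C} (t : T ⟶ pullback π i), t ≫ pullback.snd π i = 0 → ∃ l, l ≫ a = t := by
    intro T t ht
    have hz : (t ≫ pullback.fst π i) ≫ π = 0 := by rw [Category.assoc, pullback.condition, ← Category.assoc, ht, zero_comp]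
    let K := Abelian.monoIsKernelOfCokernel _ (cokernelIsCokernel (Subobject.ofLE A B h))
    refine ⟨K.lift (KernelFork.ofι _ hz), pullback.hom_ext ?_ ?_⟩
    · rw [Category.assoc, pullback.lift_fst]; exact K.fac _ WalkingParallelPair.zero
    · rw [Category.assoc, pullback.lift_snd, comp_zero, ht]
  have hPok : S.ok (pullback π i) := by
    refine S.ok_ext (S := ShortComplex.mk a (pullback.snd π i) (pullback.lift_snd _ _ hw))
      { exact := ?_ } hA hF
    refine ShortComplex.exact_of_f_is_kernel _ (KernelFork.IsLimit.ofι' _ _ fun t ht => ⟨(hfac t ht).choose, (hfac t ht).choose_spec⟩)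
  have hP := S.hp_of_ker a (pullback.snd π i) (pullback.lift_snd _ _ hw) hfac hPok hF
  haveI : Mono (pullback.fst π i ≫ B.arrow) := inferInstance
  refine ⟨Subobject.mk (pullback.fst π i ≫ B.arrow), S.ok_iso (Subobject.underlyingIso _).symm hPok, ?_, ?_, ?_⟩
  · exact Subobject.le_mk_of_comm a (by rw [← Category.assoc, pullback.lift_fst, Subobject.ofLE_arrow])
  · exact Subobject.mk_le_of_comm (pullback.fst π i) rfl
  · rw [S.hp_iso (Subobject.underlyingIso (pullback.fst π i ≫ B.arrow)).symm hPok, hP, add_sub_cancel_left]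

/-- Intermediate subobjects give subobjects of the subquotient. -/
theorem exists_quot_of_sub {A D B : Subobject E} (h : A ≤ B) (hAD : A ≤ D) (hDB : D ≤ B) (hA : S.ok (A : C))
    (hD : S.ok (D : C)) (hB : S.ok (B : C)) :
    ∃ (F : C) (i : F ⟶ cokernel (Subobject.ofLE A B h)), Mono i ∧ S.ok F ∧ S.hp F = S.hp (D : C) - S.hp (A : C) := by
  set π := cokernel.π (Subobject.ofLE A B h)
  let g := Subobject.ofLE D B hDB ≫ π
  have hI := S.ok_image g hD (S.ok_coker _ hA hB)
  refine ⟨Abelian.image g, Abelian.image.ι g, inferInstance, hI, ?_⟩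
  have w : Subobject.ofLE A D hAD ≫ Abelian.factorThruImage g = 0 := by
    rw [← cancel_mono (Abelian.image.ι g), Category.assoc, Abelian.image.fac, zero_comp]
    simp only [g, π]
    rw [← Category.assoc, Subobject.ofLE_comp_ofLE]
    exact cokernel.condition _
  have hfac : ∀ {T : C} (t : T ⟶ (D : C)), t ≫ Abelian.factorThruImage g = 0 → ∃ l, l ≫ Subobject.ofLE A D hAD = t := by
    intro T t ht
    have hz : (t ≫ Subobject.ofLE D B hDB) ≫ π = 0 := by
      rw [Category.assoc, show Subobject.ofLE D B hDB ≫ π = g from rfl, ← Abelian.image.fac g, ← Category.assoc, ht, zero_comp]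
    let K := Abelian.monoIsKernelOfCokernel _ (cokernelIsCokernel (Subobject.ofLE A B h))
    refine ⟨K.lift (KernelFork.ofι _ hz), ?_⟩
    rw [← cancel_mono (Subobject.ofLE D B hDB), Category.assoc, Subobject.ofLE_comp_ofLE]
    exact K.fac _ WalkingParallelPair.zero
  rw [S.hp_of_ker _ _ w hfac hD hI, add_sub_cancel_left]

theorem ss_interval_iff {ℓ : ℕ} {A B : Subobject E} (h : A < B) (hA : S.ok (A : C)) (hB : S.ok (B : C)) :
    (S.lat hE d hd).SS ℓ A B ↔ S.SS d ℓ (cokernel (Subobject.ofLE A B h.le)) := by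
  have hQ := S.ok_coker (Subobject.ofLE A B h.le) hA hB
  have eQ := S.q_ofLE h.le hA hB
  constructor
  · intro hss
    have key : ∀ (F : C) (i : F ⟶ cokernel (Subobject.ofLE A B h.le)), Mono i → S.ok F → ¬ IsZero F →
        ∃ D : Subobject E, S.ok (D : C) ∧ A < D ∧ D ≤ B ∧ S.hp F = S.hp (D : C) - S.hp (A : C) := by
      intro F i _ hF h0
      obtain ⟨D, hD, hAD, hDB, e⟩ := S.exists_sub_of_quot h.le hA hB i hF
      refine ⟨D, hD, lt_of_le_of_ne hAD fun he => h0 (S.isZero_of_hp hF ?_), hDB, e⟩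
      rw [e, ← he, sub_self]
    refine ⟨⟨hQ, ?_, fun F i hi hF h0 => ?_⟩, fun F i hi hF h0 => ?_⟩
    · exact ((S.deg_mono _ hA hB).2).trans ((S.deg_mono B.arrow hB hE).1.trans hd)
    · obtain ⟨D, hD, hAD, hDB, e⟩ := key F i hi hF h0
      rw [e]; exact hss.1 D hD hAD hDB
    · obtain ⟨D, hD, hAD, hDB, e⟩ := key F i hi hF h0
      rw [e, eQ]; exact hss.2 D hD hAD hDB
  · intro hss
    have key : ∀ D : Subobject E, S.ok (D : C) → A < D → D ≤ B →
        ∃ (F : C) (i : F ⟶ cokernel (Subobject.ofLE A B h.le)), Mono i ∧ S.ok F ∧ ¬ IsZero F ∧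
          S.hp F = S.hp (D : C) - S.hp (A : C) := by
      intro D hD hAD hDB
      obtain ⟨F, i, hi, hF, e⟩ := S.exists_quot_of_sub h.le hAD.le hDB hA hD hB
      refine ⟨F, i, hi, hF, fun hz => ?_, e⟩
      have := (S.lat hE d hd).pos A D hA hD hAD
      rw [show (S.lat hE d hd).f D - (S.lat hE d hd).f A = S.hp F from e.symm, S.hp_zero hz, leadingCoeff_zero] at this
      exact lt_irrefl _ this
    refine ⟨fun D hD hAD hDB => ?_, fun D hD hAD hDB => ?_⟩
    · obtain ⟨F, i, hi, hF, h0, e⟩ := key D hD hAD hDB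
      show 0 < alpha d (S.hp (D : C) - S.hp (A : C))
      rw [← e]; exact hss.1.2.2 F i hi hF h0
    · obtain ⟨F, i, hi, hF, h0, e⟩ := key D hD hAD hDB
      show Le d ℓ (S.hp (D : C) - S.hp (A : C)) (S.hp (B : C) - S.hp (A : C))
      rw [← e, ← eQ]; exact hss.2 F i hi hF h0

/-- Every object pure of dimension `d` has exactly one Harder-Narasimhan filtration. -/
theorem existsUnique_hn (ℓ : ℕ) (hP : S.Pure E d) :
    ∃! s : LTSeries (Subobject E), s.head = ⊥ ∧ s.last = ⊤ ∧ (∀ i : Fin s.length, S.SS d ℓ (factor s i)) ∧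
      ∀ i j : Fin s.length, i.val + 1 = j.val → Lt d ℓ (S.hp (factor s j)) (S.hp (factor s i)) := by
  let T := S.lat hP.1 d hP.2.1
  obtain ⟨s, hs, hu⟩ := T.existsUnique_isHN ℓ T.ok_bot (S.lat_pure_bot hP)
  obtain ⟨hh, hl, hok, hss, hdec⟩ := hs
  have eq : ∀ i : Fin s.length, S.hp (factor s i) = T.q (s i.castSucc) (s i.succ) := fun i =>
    S.q_ofLE (s.step i).le (hok _) (hok _)
  refine ⟨s, ⟨hh, hl, fun i => (S.ss_interval_iff (s.step i) (hok _) (hok _)).mp (hss i), fun i j hij => ?_⟩, ?_⟩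
  · rw [eq i, eq j]; exact hdec i j hij
  · rintro t ⟨hh', hl', hss', hdec'⟩
    have hok' : ∀ j, S.ok ((t j : Subobject E) : C) := by
      intro j
      induction j using Fin.induction with
      | zero => exact (show S.ok ((t.head : Subobject E) : C) from hh'.symm ▸ S.ok_bot_sub E)
      | succ i ih =>
        exact S.ok_ext (S := ShortComplex.mk (Subobject.ofLE _ _ (t.step i).le) (cokernel.π _) (cokernel.condition _))
          { exact := ShortComplex.exact_cokernel _ } ih (hss' i).1.1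
    refine hu t ⟨hh', hl', hok', fun i => (S.ss_interval_iff (t.step i) (hok' _) (hok' _)).mpr (hss' i), fun i j hij => ?_⟩
    show Lt d ℓ (T.q (t j.castSucc) (t j.succ)) (T.q (t i.castSucc) (t i.succ))
    rw [show T.q (t j.castSucc) (t j.succ) = S.hp (factor t j) from (S.q_ofLE (t.step j).le (hok' _) (hok' _)).symm,
      show T.q (t i.castSucc) (t i.succ) = S.hp (factor t i) from (S.q_ofLE (t.step i).le (hok' _) (hok' _)).symm]
    exact hdec' i j hij

/-- The maximal destabilising subobject. -/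
theorem exists_maxDestab' (ℓ : ℕ) (hP : S.Pure E d) (h0 : ¬ IsZero E) :
    ∃ (F : C) (i : F ⟶ E), Mono i ∧ S.ok F ∧ ¬ IsZero F ∧ ∀ (G : C) (g : G ⟶ E), Mono g → S.ok G → ¬ IsZero G →
      Le d ℓ (S.hp G) (S.hp F) ∧ (Le d ℓ (S.hp F) (S.hp G) → ∃ φ : G ⟶ F, φ ≫ i = g) := by
  let T := S.lat hP.1 d hP.2.1
  have hne : (⊥ : Subobject E) < ⊤ := lt_of_le_of_ne bot_le fun e => h0 <| S.isZero_of_hp hP.1 <| by
    rw [← S.hp_top_sub hP.1, ← e, S.hp_bot_sub]
  obtain ⟨c, hc, hbc, hmax⟩ := T.exists_maxDestab ℓ T.ok_bot (S.lat_pure_bot hP) hne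
  have hq : ∀ D : Subobject E, T.q ⊥ D = S.hp (D : C) := fun D => by
    show S.hp (D : C) - S.hp ((⊥ : Subobject E) : C) = _
    rw [S.hp_bot_sub, sub_zero]
  refine ⟨(c : C), c.arrow, inferInstance, hc, fun hz => ?_, fun G g _ hG hG0 => ?_⟩
  · have := T.pos ⊥ c T.ok_bot hc hbc
    rw [show T.f c - T.f ⊥ = S.hp (c : C) from hq c, S.hp_zero hz, leadingCoeff_zero] at this
    exact lt_irrefl _ this
  · have hGok : S.ok ((Subobject.mk g : Subobject E) : C) := S.ok_iso (Subobject.underlyingIso g).symm hG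
    have e := S.hp_iso (Subobject.underlyingIso g).symm hG
    have hlt : (⊥ : Subobject E) < Subobject.mk g := lt_of_le_of_ne bot_le fun h => hG0 <| S.isZero_of_hp hG <| by
      rw [← e, ← h, S.hp_bot_sub]
    obtain ⟨h1, h2⟩ := hmax (Subobject.mk g) hGok hlt
    rw [hq, hq, e] at h1 h2
    exact ⟨h1, fun h => ⟨(Subobject.underlyingIso g).inv ≫ Subobject.ofLE _ _ (h2 h), by simp⟩⟩

end Sys

end Groth.Agent.ShStab28
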