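import Groth.Agent.Lib.ShStab28.Lat
import Groth.Agent.Lib.ShStab28.Cmp

/-!
# Quotients of filtered intervals
-/

open Polynomial StabCat

noncomputable section

namespace Groth.Agent.ShStab28

variable {d ℓ : ℕ} {A B P : ℚ[X]}

theorem redDiff_add_snd (d : ℕ) (P A B : ℚ[X]) : redDiff d P (A + B) = redDiff d P A + redDiff d P B := by
  simp only [redDiff, alpha_add, smul_add, add_smul]; abel

theorem lt_add_of_lt_of_le (hA : Lt d ℓ P A) (hB : Le d ℓ P B) : Lt d ℓ P (A + B) := by
  rw [Lt, topPart_add]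
  unfold Lt at hA
  unfold Le at hB
  rw [redLT_iff] at hA ⊢
  rw [redLE_iff] at hB
  rw [redDiff_add_snd]
  exact lc_add_pos hA hB

theorem le_of_alpha_zero' (hP : 0 ≤ alpha d P) (hPd : P.natDegree ≤ d) (hBd : B.natDegree ≤ d)
    (hB : 0 ≤ B.leadingCoeff) (hB0 : alpha d B = 0) : Le d ℓ P B :=
  le_add_left_iff.mp (le_of_alpha_eq_zero hP hPd hBd hB hB0)

theorem lt_of_lt_of_le' (hP : 0 ≤ alpha d P) (hA : 0 ≤ alpha d A) (hB : 0 < alpha d B) (h₁ : Lt d ℓ P A)
    (h₂ : Le d ℓ A B) : Lt d ℓ P B :=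
  not_le_iff.mp fun h => not_le_iff.mpr h₁ (le_trans' hA hB hP h₂ h)

namespace LatSys

variable {L : Type*} [Lattice L] [BoundedOrder L] (S : LatSys L)

/-- Images of intervals with large factors are large. -/
theorem quot_bound (n : ℕ) (s : Fin (n + 1) → L) (hok : ∀ j, S.ok (s j))
    (hlt : ∀ i : Fin n, s i.castSucc < s i.succ) {k : L} (hk : S.ok k) (hbase : s 0 ≤ k) (hPure : S.Pure k ⊤)
    (hss : ∀ i : Fin n, S.SS ℓ (s i.castSucc) (s i.succ)) (P : ℚ[X]) (hP : 0 < alpha S.d P)
    (hPd : P.natDegree ≤ S.d) (hfac : ∀ i : Fin n, Lt S.d ℓ P (S.q (s i.castSucc) (s i.succ))) :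
    ∀ j, s j ≤ k ∨ Lt S.d ℓ P (S.q k (k ⊔ s j)) := by
  intro j
  induction j using Fin.induction with
  | zero => exact Or.inl hbase
  | succ i ih =>
    set a := s i.castSucc with ha
    set b := s i.succ with hb
    set D := k ⊔ a with hD
    have hab : a ≤ b := (hlt i).le
    have hDok : S.ok D := S.ok_sup _ _ hk (hok i.castSucc)
    have hcok : S.ok (b ⊓ D) := S.ok_inf _ _ (hok i.succ) hDok
    have hac : a ≤ b ⊓ D := le_inf hab le_sup_right
    have hD' : k ⊔ b = b ⊔ D := by
      rw [hD, sup_comm k a, ← sup_assoc, sup_eq_left.mpr hab, sup_comm]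
    by_cases hcb : b ≤ D
    · rcases ih with h | h
      · exact Or.inl (hcb.trans (sup_le le_rfl h))
      · exact Or.inr (by rw [hD', sup_eq_right.mpr hcb]; exact h)
    · have hpiece : S.q D (b ⊔ D) = S.q (b ⊓ D) b := (S.q_inf_sup (hok i.succ) hDok).symm
      have hle : Le S.d ℓ (S.q a b) (S.q (b ⊓ D) b) := SS.le_quot S (hss i) (hok i.castSucc) (hok i.succ) hcok hac inf_le_left
      have hn := S.α_nonneg hcok (hok i.succ) inf_le_left
      have hqa : 0 ≤ alpha S.d (S.q a b) := S.α_nonneg (hok i.castSucc) (hok i.succ) hab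
      have hsum : S.q k (k ⊔ b) = S.q k D + S.q D (b ⊔ D) := by rw [hD', S.q_add]
      right
      rcases hn.lt_or_eq with hpos | hzero
      · have hBlt : Lt S.d ℓ P (S.q D (b ⊔ D)) := by
          rw [hpiece]; exact lt_of_lt_of_le' hP.le hqa hpos (hfac i) hle
        rcases ih with h | h
        · have hDk : D = k := by rw [hD]; exact sup_eq_left.mpr h
          rw [hsum, hDk, q_self, zero_add]
          rwa [hDk] at hBlt
        · rw [hsum]; exact lt_add_of_lt_of_le h (le_of_lt hBlt)
      · have hBle : Le S.d ℓ P (S.q D (b ⊔ D)) := by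
          rw [hpiece]
          exact le_of_alpha_zero' hP.le hPd (S.deg_le hcok (hok i.succ) inf_le_left)
            (S.lc_nonneg hcok (hok i.succ) inf_le_left) hzero.symm
        rcases ih with h | h
        · exfalso
          have hDk : D = k := by rw [hD]; exact sup_eq_left.mpr h
          have hlt' : k < k ⊔ b := lt_of_le_of_ne le_sup_left fun e =>
            hcb (by rw [hDk]; exact e ▸ le_sup_right)
          have := hPure _ (S.ok_sup _ _ hk (hok i.succ)) hlt' le_top
          rw [LatSys.α, hsum, hDk, q_self, zero_add] at this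
          rw [hDk] at hpiece
          rw [hpiece] at this
          change 0 = alpha S.d (S.q (b ⊓ D) b) at hzero
          rw [hDk] at hzero
          exact this.ne hzero
        · rw [hsum]; exact lt_add_of_lt_of_le h hBle

end LatSys

end Groth.Agent.ShStab28
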