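import Groth.Agent.Lib.ShStab28.Filt
import Groth.Agent.Lib.ShStab28.LatQuot
import Mathlib.CategoryTheory.Abelian.Refinements

/-!
# The last factor of a Harder-Narasimhan filtration
-/

universe w v u

open CategoryTheory CategoryTheory.Limits StabCat
open scoped Polynomial

noncomputable section

namespace Groth.Agent.ShStab28.Sys

variable {C : Type u} [Category.{v} C] [Abelian C] (S : Sys C) {E G : C} {d ℓ : ℕ}

theorem last_factor_unique (hE : S.Pure E d) (s : LTSeries (Subobject E)) (hh : s.head = ⊥) (hl : s.last = ⊤)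
    (hss : ∀ i, S.SS d ℓ (factor s i))
    (hdec : ∀ i j : Fin s.length, i.val + 1 = j.val → Lt d ℓ (S.hp (factor s j)) (S.hp (factor s i)))
    (a : Fin s.length) (ha : a.val + 1 = s.length) (q : E ⟶ G) [Epi q] (hG : S.Pure G d)
    (hα : alpha d (S.hp (cokernel (s a.castSucc).arrow)) = alpha d (S.hp G))
    (hred : Eqv d ℓ (S.hp (cokernel (s a.castSucc).arrow)) (S.hp G)) :
    ∃ φ : cokernel (s a.castSucc).arrow ≅ G, cokernel.π (s a.castSucc).arrow ≫ φ.hom = q := by
  let T := S.lat hE.1 d hE.2.1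
  have hok := S.ok_series s hh fun i => (hss i).1.1
  have htop : s a.succ = ⊤ := by
    rw [← hl]; exact congrArg s (Fin.ext (by simp; omega))
  let K : Subobject E := Subobject.mk (kernel.ι q)
  have hK : S.ok (K : C) := S.ok_iso (Subobject.underlyingIso _).symm (S.ok_ker q hE.1 hG.1)
  have hhpK : S.hp (K : C) = S.hp (kernel q) := S.hp_iso (Subobject.underlyingIso _).symm (S.ok_ker q hE.1 hG.1)
  have hqK : T.q K ⊤ = S.hp G := by
    show S.hp _ - S.hp _ = _
    rw [S.hp_top_sub hE.1, hhpK, S.hp_epi q hE.1 hG.1, add_sub_cancel_left]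
  have hKw : K.arrow ≫ q = 0 := by
    rw [← Subobject.underlyingIso_hom_comp_eq_mk, Category.assoc, kernel.condition, comp_zero]
  have hPureK : T.Pure K ⊤ := by
    intro D hD hKD _
    have hw : Subobject.ofLE K D hKD.le ≫ D.arrow ≫ q = 0 := by
      rw [← Category.assoc, Subobject.ofLE_arrow, hKw]
    let g := cokernel.desc _ _ hw
    haveI : Mono g := by
      refine Preadditive.mono_of_cancel_zero _ fun {W} t ht => ?_
      obtain ⟨W', π, hπ, u, hu⟩ := surjective_up_to_refinements_of_epi (cokernel.π (Subobject.ofLE K D hKD.le)) t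
      rw [← cancel_epi π, comp_zero, hu]
      have h0 : (u ≫ D.arrow) ≫ q = 0 := by
        have h' : π ≫ t ≫ g = 0 := by rw [ht, comp_zero]
        rw [← Category.assoc, hu, Category.assoc, cokernel.π_desc, ← Category.assoc] at h'
        exact h'
      have : u = (kernel.lift q (u ≫ D.arrow) h0 ≫ (Subobject.underlyingIso (kernel.ι q)).inv) ≫
          Subobject.ofLE K D hKD.le := by
        rw [← cancel_mono D.arrow]; simp [K]
      rw [this, Category.assoc, cokernel.condition, comp_zero]
    show 0 < alpha d (S.hp (D : C) - S.hp (K : C))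
    rw [← S.q_ofLE hKD.le hK hD]
    exact hG.2.2 _ g inferInstance (S.ok_coker _ hK hD) (not_isZero_coker hKD)
  let P := fun i : Fin s.length => S.hp (factor s i)
  have hPq : ∀ i : Fin s.length, P i = T.q (s i.castSucc) (s i.succ) := fun i =>
    S.q_ofLE (s.step i).le (hok _) (hok _)
  have hPpos : ∀ i, 0 < alpha d (P i) := fun i => (hss i).1.alpha_pos (not_isZero_coker (s.step i))
  have hF : S.hp (cokernel (s a.castSucc).arrow) = P a := by
    rw [hPq a, htop]
    show _ = S.hp _ - S.hp _
    rw [S.hp_top_sub hE.1, S.hp_mono (s a.castSucc).arrow (hok _) hE.1, add_sub_cancel_left]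
  rw [hF] at hα hred
  have hltP : ∀ i : Fin s.length, i.val < a.val → Lt d ℓ (P a) (P i) := by
    intro i hi
    let i' : Fin s.length := ⟨i.val + 1, by omega⟩
    exact not_le_iff.mp fun h => not_le_iff.mpr (hdec i i' rfl)
      (ShStab28.le_trans' (hPpos i).le (hPpos a) (hPpos i').le h
        (le_of_decreasing P hPpos hdec a i' (by show i.val + 1 ≤ a.val; omega)))
  have key := T.quot_bound (ℓ := ℓ) a.val (fun j => s ⟨j.val, by omega⟩) (fun j => hok _)
    (fun i => s.step ⟨i.val, by omega⟩) hK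
    (by show s ⟨0, by omega⟩ ≤ K; rw [show s ⟨0, by omega⟩ = ⊥ from hh]; exact bot_le) hPureK
    (fun i => (S.ss_interval_iff (s.step ⟨i.val, by omega⟩) (hok _) (hok _)).mpr (hss ⟨i.val, by omega⟩))
    (P a) (hPpos a) (hss a).1.2.1
    (fun i => (hPq ⟨i.val, by omega⟩) ▸ hltP ⟨i.val, by omega⟩ i.2) (Fin.last a.val)
  change s a.castSucc ≤ K ∨ Lt d ℓ (P a) (T.q K (K ⊔ s a.castSucc)) at key
  have hAK : s a.castSucc ≤ K := by
    refine key.resolve_right fun hlt => ?_
    let A := s a.castSucc
    have hc : S.ok ((K ⊔ A : Subobject E) : C) := T.ok_sup _ _ hK (hok _)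
    have hssT : T.SS ℓ (s a.castSucc) (s a.succ) := (S.ss_interval_iff (s.step a) (hok _) (hok _)).mpr (hss a)
    have hle : Le d ℓ (P a) (T.q (K ⊔ A) ⊤) := by
      have h := LatSys.SS.le_quot T hssT (hok _) (hok _) hc (le_sup_right : A ≤ K ⊔ A) (htop ▸ le_top)
      rw [← hPq a, htop] at h
      exact h
    have h := lt_add_of_lt_of_le hlt hle
    rw [T.q_add, hqK] at h
    exact not_le_iff.mpr h (eqv_iff.mp hred).2
  have hz : (s a.castSucc).arrow ≫ q = 0 := by
    rw [← Subobject.ofLE_arrow hAK, Category.assoc, hKw, comp_zero]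
  let φ := cokernel.desc _ q hz
  haveI : Epi φ := epi_of_epi_fac (cokernel.π_desc _ q hz)
  have hFok : S.ok (cokernel (s a.castSucc).arrow) := S.ok_coker _ (hok _) hE.1
  let e : cokernel (s a.castSucc).arrow ≅ factor s a :=
    (cokernel.mapIso _ _ (Iso.refl _) (@asIso _ _ _ _ (s a.succ).arrow
      ((Subobject.isIso_arrow_iff_eq_top _).mpr htop)) (by simp)).symm
  have hFpure : S.Pure (cokernel (s a.castSucc).arrow) d := (hss a).1.sub e.hom hFok
  have hKz : IsZero (kernel φ) := by
    by_contra hne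
    have hp := hFpure.2.2 _ (kernel.ι φ) inferInstance (S.ok_ker φ hFok hG.1) hne
    have hsum := S.hp_epi φ hFok hG.1
    rw [hF] at hsum
    have h2 := congrArg (alpha d) hsum
    rw [alpha_add, hα] at h2
    linarith
  haveI := S.isIso_of_hp_epi φ hFok hG.1 (by rw [S.hp_epi φ hFok hG.1, S.hp_zero hKz, zero_add])
  exact ⟨asIso φ, cokernel.π_desc _ _ _⟩

end Groth.Agent.ShStab28.Sys
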