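import Groth.Agent.Lib.ShStab28.Poly
import Mathlib.Order.RelSeries
import Mathlib.Order.Lattice
import Mathlib.Order.BoundedOrder.Basic
import Mathlib.Order.WellFounded

/-!
# Harder-Narasimhan and Jordan-Hölder series in a lattice with a Hilbert polynomial
-/

open Polynomial StabCat

noncomputable section

namespace Groth.Agent.ShStab28

/-- Reduced comparison of `ℓ`-truncations. -/
def Le (d ℓ : ℕ) (P Q : ℚ[X]) : Prop := RedLE d (topPart ℓ d P) (topPart ℓ d Q)

/-- Equality of reduced `ℓ`-truncations. -/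
def Eqv (d ℓ : ℕ) (P Q : ℚ[X]) : Prop := RedEq d (topPart ℓ d P) (topPart ℓ d Q)

/-- Strict reduced comparison of `ℓ`-truncations. -/
def Lt (d ℓ : ℕ) (P Q : ℚ[X]) : Prop := RedLT d (topPart ℓ d P) (topPart ℓ d Q)

section cmp

variable {d ℓ : ℕ} {P Q R A B : ℚ[X]}

theorem topPart_add (ℓ d : ℕ) (A B : ℚ[X]) : topPart ℓ d (A + B) = topPart ℓ d A + topPart ℓ d B := by
  ext n; simp only [coeff_topPart, coeff_add]; split_ifs <;> simp

theorem le_trans' (hP : 0 ≤ alpha d P) (hQ : 0 < alpha d Q) (hR : 0 ≤ alpha d R) (h₁ : Le d ℓ P Q) (h₂ : Le d ℓ Q R) :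
    Le d ℓ P R :=
  redLE_trans (by rwa [alpha_topPart]) (by rwa [alpha_topPart]) (by rwa [alpha_topPart]) h₁ h₂

theorem not_le_iff : ¬ Le d ℓ P Q ↔ Lt d ℓ Q P := redLT_iff_not_redLE.symm

theorem le_refl' (P : ℚ[X]) : Le d ℓ P P := redEq_le (redEq_refl _ _)

theorem le_of_lt (h : Lt d ℓ P Q) : Le d ℓ P Q := redLT_le h

theorem le_total' (P Q : ℚ[X]) : Le d ℓ P Q ∨ Lt d ℓ Q P := redLE_or_redLT _ _ _

theorem eqv_iff : Eqv d ℓ P Q ↔ Le d ℓ P Q ∧ Le d ℓ Q P :=
  ⟨fun h => ⟨redEq_le h, redEq_le (redEq_symm h)⟩, fun h => redEq_of_le_of_ge h.1 h.2⟩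

theorem le_add_left_iff : Le d ℓ A (A + B) ↔ Le d ℓ A B := by
  rw [Le, topPart_add]; exact redLE_add_left

theorem le_add_right_iff : Le d ℓ (A + B) B ↔ Le d ℓ A B := by
  rw [Le, topPart_add]; exact redLE_add_right

theorem lt_add_left_iff : Lt d ℓ A (A + B) ↔ Lt d ℓ A B := by
  rw [Lt, topPart_add]; exact redLT_add_left

theorem lt_add_right_iff : Lt d ℓ (A + B) B ↔ Lt d ℓ A B := by
  rw [Lt, topPart_add]; exact redLT_add_right

theorem add_le_left_iff : Le d ℓ (A + B) A ↔ Le d ℓ B A := by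
  rw [add_comm]; exact le_add_right_iff

theorem le_sum_iff_right : Le d ℓ B (A + B) ↔ Le d ℓ B A := by
  rw [add_comm]; exact le_add_left_iff

theorem natDegree_le_of_add (hA : 0 ≤ A.leadingCoeff) (hB : 0 ≤ B.leadingCoeff) :
    A.natDegree ≤ (A + B).natDegree ∧ B.natDegree ≤ (A + B).natDegree := by
  have key : ∀ A B : ℚ[X], 0 ≤ A.leadingCoeff → 0 ≤ B.leadingCoeff → A.natDegree ≤ (A + B).natDegree := by
    intro A B hA hB
    by_contra h
    push Not at h
    have hA0 : A ≠ 0 := fun h0 => by simp [h0] at h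
    have h0 : A.leadingCoeff + B.coeff A.natDegree = 0 := by
      rw [leadingCoeff, ← coeff_add]; exact coeff_eq_zero_of_natDegree_lt h
    have hApos : 0 < A.leadingCoeff := lt_of_le_of_ne hA (Ne.symm (leadingCoeff_ne_zero.mpr hA0))
    have hBdeg : B.natDegree ≤ A.natDegree := by
      have := natDegree_sub_le (A + B) A
      rw [add_sub_cancel_left] at this
      exact this.trans (max_le h.le le_rfl)
    rcases eq_or_lt_of_le hBdeg with e | e
    · rw [← e, ← leadingCoeff] at h0; linarith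
    · rw [coeff_eq_zero_of_natDegree_lt e] at h0; linarith
  exact ⟨key A B hA hB, by rw [add_comm]; exact key B A hB hA⟩

theorem le_of_alpha_eq_zero (hA : 0 ≤ alpha d A) (hAd : A.natDegree ≤ d) (hBd : B.natDegree ≤ d)
    (hB : 0 ≤ B.leadingCoeff) (hB0 : alpha d B = 0) : Le d ℓ A (A + B) := by
  rw [le_add_left_iff]
  refine redLE_topPart hAd hBd (redLE_iff.mpr ?_)
  rw [redDiff, hB0, zero_smul, sub_zero, smul_eq_C_mul, leadingCoeff_mul, leadingCoeff_C]
  exact mul_nonneg hA hB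

end cmp

/-- An additive polynomial on a sublattice of good elements of a modular situation. -/
structure LatSys (L : Type*) [Lattice L] [BoundedOrder L] where
  ok : L → Prop
  f : L → ℚ[X]
  d : ℕ
  ok_bot : ok ⊥
  ok_top : ok ⊤
  ok_sup : ∀ a b, ok a → ok b → ok (a ⊔ b)
  ok_inf : ∀ a b, ok a → ok b → ok (a ⊓ b)
  modular : ∀ a b, ok a → ok b → f (a ⊔ b) + f (a ⊓ b) = f a + f b
  pos : ∀ a b, ok a → ok b → a < b → 0 < (f b - f a).leadingCoeff
  deg : (f ⊤ - f ⊥).natDegree ≤ d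
  alphaNat : ∀ a b, ok a → ok b → a ≤ b → ∃ n : ℕ, alpha d (f b - f a) = n
  wf : WellFoundedGT {a : L // ok a}

/-- Prepend an element. -/
def consSeries {L : Type*} [Preorder L] (t : LTSeries L) (a : L) (h : a < t.head) : LTSeries L where
  length := t.length + 1
  toFun := Fin.cons a t.toFun
  step := Fin.cases h fun i => by
    show (Fin.cons a t.toFun : Fin (t.length + 2) → L) i.succ.castSucc < (Fin.cons a t.toFun : Fin (t.length + 2) → L) i.succ.succ
    rw [Fin.castSucc_succ, Fin.cons_succ, Fin.cons_succ]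
    exact t.step i

namespace LatSys

variable {L : Type*} [Lattice L] [BoundedOrder L] (S : LatSys L)

/-- The polynomial of an interval. -/
def q (a b : L) : ℚ[X] := S.f b - S.f a

/-- The multiplicity of an interval. -/
def α (a b : L) : ℚ := alpha S.d (S.q a b)

theorem q_add (a b c : L) : S.q a b + S.q b c = S.q a c := by simp only [q]; abel

theorem q_self (a : L) : S.q a a = 0 := sub_self _

theorem α_add (a b c : L) : S.α a b + S.α b c = S.α a c := by rw [α, α, α, ← alpha_add, q_add]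

theorem α_self (a : L) : S.α a a = 0 := by rw [α, q_self, alpha_zero]

theorem lc_nonneg {a b : L} (ha : S.ok a) (hb : S.ok b) (h : a ≤ b) : 0 ≤ (S.q a b).leadingCoeff := by
  rcases h.lt_or_eq with h | h
  · exact (S.pos a b ha hb h).le
  · subst h; rw [q_self, leadingCoeff_zero]

theorem deg_le {a b : L} (ha : S.ok a) (hb : S.ok b) (h : a ≤ b) : (S.q a b).natDegree ≤ S.d := by
  have h1 : (S.q ⊥ b).natDegree ≤ S.d := by
    refine le_trans ?_ S.deg
    have := (natDegree_le_of_add (S.lc_nonneg S.ok_bot hb bot_le) (S.lc_nonneg hb S.ok_top le_top)).1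
    rwa [q_add] at this
  refine le_trans ?_ h1
  have := (natDegree_le_of_add (S.lc_nonneg S.ok_bot ha bot_le) (S.lc_nonneg ha hb h)).2
  rwa [q_add] at this

theorem α_nonneg {a b : L} (ha : S.ok a) (hb : S.ok b) (h : a ≤ b) : 0 ≤ S.α a b :=
  alpha_nonneg (S.deg_le ha hb h) (S.lc_nonneg ha hb h)

/-- The second isomorphism theorem. -/
theorem q_inf_sup {a b : L} (ha : S.ok a) (hb : S.ok b) : S.q (a ⊓ b) a = S.q b (a ⊔ b) := by
  have := S.modular a b ha hb
  simp only [q]
  linear_combination -this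

/-- All nonzero subintervals at the bottom have full degree. -/
def Pure (a b : L) : Prop := ∀ c, S.ok c → a < c → c ≤ b → 0 < S.α a c

/-- Semistability of an interval. -/
def SS (ℓ : ℕ) (a b : L) : Prop :=
  S.Pure a b ∧ ∀ c, S.ok c → a < c → c ≤ b → Le S.d ℓ (S.q a c) (S.q a b)

/-- In a semistable interval quotients are at least as big. -/
theorem SS.le_quot {ℓ : ℕ} {a b c : L} (h : S.SS ℓ a b) (ha : S.ok a) (hb : S.ok b) (hc : S.ok c) (hac : a ≤ c)
    (hcb : c ≤ b) : Le S.d ℓ (S.q a b) (S.q c b) := by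
  rcases hac.lt_or_eq with hlt | heq
  · have := h.2 c hc hlt hcb
    rw [← S.q_add a c b, le_add_left_iff] at this
    rwa [← S.q_add a c b, le_add_right_iff]
  · subst heq; exact le_refl' _

/-- The maximal destabilising element of `[a, ⊤]`. -/
theorem exists_maxDestab (ℓ : ℕ) {a : L} (ha : S.ok a) (hP : S.Pure a ⊤) (hne : a < ⊤) :
    ∃ c, S.ok c ∧ a < c ∧ ∀ g, S.ok g → a < g →
      Le S.d ℓ (S.q a g) (S.q a c) ∧ (Le S.d ℓ (S.q a c) (S.q a g) → g ≤ c) := by
  classical
  haveI := S.wf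
  have hpos : ∀ g, S.ok g → a < g → 0 < S.α a g := fun g hg h => hP g hg h le_top
  let Max : L → Prop := fun c => S.ok c ∧ a < c ∧ ∀ g, S.ok g → c < g → Lt S.d ℓ (S.q a g) (S.q a c)
  -- every element lies below a maximal one
  have hup : ∀ x, S.ok x → a < x → ∃ c, Max c ∧ x ≤ c ∧ Le S.d ℓ (S.q a x) (S.q a c) := by
    intro x hx
    induction hX : (⟨x, hx⟩ : {a : L // S.ok a}) using WellFoundedGT.induction generalizing x with
    | _ X ih =>
      intro hax
      by_cases hm : ∀ g, S.ok g → x < g → Lt S.d ℓ (S.q a g) (S.q a x)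
      · exact ⟨x, ⟨hx, hax, hm⟩, le_rfl, le_refl' _⟩
      · push Not at hm
        obtain ⟨g, hg, hxg, hle⟩ := hm
        rw [← not_le_iff, not_not] at hle
        obtain ⟨c, hc, hgc, hlec⟩ := ih ⟨g, hg⟩ (hX ▸ hxg) g hg rfl (hax.trans hxg)
        exact ⟨c, hc, hxg.le.trans hgc, le_trans' (hpos x hx hax).le (hpos g hg (hax.trans hxg))
          (hpos c hc.1 hc.2.1).le hle hlec⟩
  -- a maximal one of least multiplicity
  obtain ⟨c₀, hc₀, -, -⟩ := hup ⊤ S.ok_top hne
  have hex : ∃ n : ℕ, ∃ c, Max c ∧ S.α a c = n := by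
    obtain ⟨n, hn⟩ := S.alphaNat a c₀ ha hc₀.1 hc₀.2.1.le
    exact ⟨n, c₀, hc₀, hn⟩
  obtain ⟨c, hc, hn⟩ := Nat.find_spec hex
  have hmin : ∀ c', Max c' → S.α a c ≤ S.α a c' := fun c' hc' => by
    obtain ⟨n, hn'⟩ := S.alphaNat a c' ha hc'.1 hc'.2.1.le
    rw [hn, show S.α a c' = n from hn']
    exact_mod_cast Nat.find_min' hex ⟨c', hc', hn'⟩
  obtain ⟨hcok, hac, hcmax⟩ := hc
  have hαc := hpos c hcok hac
  -- comparison with elements not below `c`
  have hinter : ∀ g, S.ok g → a < g → ¬ g ≤ c → Le S.d ℓ (S.q a c) (S.q a g) →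
      a < c ⊓ g ∧ Lt S.d ℓ (S.q a g) (S.q a (c ⊓ g)) := by
    intro g hg hag hgc hle
    have hlt : c < c ⊔ g := lt_of_le_of_ne le_sup_left fun h => hgc (h ▸ le_sup_right)
    have hsok := S.ok_sup c g hcok hg
    have h1 := hcmax _ hsok hlt
    have hkey : S.q a (c ⊔ g) + S.q a (c ⊓ g) = S.q a c + S.q a g := by
      have := S.modular c g hcok hg
      simp only [q]
      linear_combination this
    rcases (le_inf hac.le hag.le).lt_or_eq with hi | hi
    · refine ⟨hi, not_le_iff.mp fun h2 => ?_⟩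
      -- p(c ⊔ g) < p(c), p(c ⊓ g) ≤ p(g) and p(c) ≤ p(g)
      have hiok := S.ok_inf c g hcok hg
      have e : S.q a g = S.q a (c ⊓ g) + S.q (c ⊓ g) g := (S.q_add _ _ _).symm
      have e' : S.q a (c ⊔ g) = S.q a c + S.q c (c ⊔ g) := (S.q_add _ _ _).symm
      have hq : S.q (c ⊓ g) g = S.q c (c ⊔ g) := by rw [inf_comm, S.q_inf_sup hg hcok, sup_comm]
      rw [e', ← not_le_iff, le_add_left_iff] at h1
      apply h1
      rw [e, le_add_left_iff, hq] at h2
      rw [e, hq] at hle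
      -- hence p(c) ≤ p(quotient)
      by_cases h0 : 0 < alpha S.d (S.q c (c ⊔ g))
      · refine le_trans' hαc.le (by rw [← hq, ← e]; exact hpos g hg hag) h0.le hle ?_
        rwa [le_add_right_iff]
      · have hz : alpha S.d (S.q c (c ⊔ g)) = 0 := le_antisymm (not_lt.mp h0) (S.α_nonneg hcok hsok le_sup_left)
        have := le_of_alpha_eq_zero (ℓ := ℓ) (S.α_nonneg ha hcok hac.le) (S.deg_le ha hcok hac.le)
          (S.deg_le hcok hsok le_sup_left) (S.lc_nonneg hcok hsok le_sup_left) hz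
        rwa [le_add_left_iff] at this
    · exfalso
      rw [← hi, q_self, add_zero] at hkey
      rw [hkey, ← not_le_iff, le_add_left_iff] at h1
      exact h1 hle
  -- nothing inside `c` is bigger
  have hin : ∀ g, S.ok g → a < g → g ≤ c → Le S.d ℓ (S.q a g) (S.q a c) := by
    by_contra hcon
    push Not at hcon
    let B : Set {a : L // S.ok a} := {g | a < g.1 ∧ g.1 ≤ c ∧ ¬ Le S.d ℓ (S.q a g.1) (S.q a c)}
    obtain ⟨g₀, hg₀ok, hg₀⟩ := hcon
    have wfB : WellFounded ((· > ·) : {a : L // S.ok a} → {a : L // S.ok a} → Prop) := wellFounded_gt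
    obtain ⟨g, ⟨hag, hgc, hnle⟩, hgmax⟩ := wfB.has_min B ⟨⟨g₀, hg₀ok⟩, hg₀⟩
    -- choose a maximal bad element whose slope dominates
    obtain ⟨m, hm, hgm, hlegm⟩ := hup g.1 g.2 hag
    have hlt := not_le_iff.mp hnle
    have hlecm : Le S.d ℓ (S.q a c) (S.q a m) :=
      le_trans' hαc.le (hpos _ g.2 hag) (hpos m hm.1 hm.2.1).le (le_of_lt hlt) hlegm
    have hmc : ¬ m ≤ c := by
      intro hmc
      have hmin' := hmin m hm
      have hz : S.α m c = 0 := by
        have := S.α_add a m c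
        have := S.α_nonneg hm.1 hcok hmc
        linarith
      have h2 := le_of_alpha_eq_zero (ℓ := ℓ) (S.α_nonneg ha hm.1 hm.2.1.le) (S.deg_le ha hm.1 hm.2.1.le)
        (S.deg_le hm.1 hcok hmc) (S.lc_nonneg hm.1 hcok hmc) hz
      rw [S.q_add] at h2
      exact hnle (le_trans' (hpos _ g.2 hag).le (hpos m hm.1 hm.2.1) hαc.le hlegm h2)
    obtain ⟨hi, hlt'⟩ := hinter m hm.1 hm.2.1 hmc hlecm
    have hgi : g.1 ≤ c ⊓ m := le_inf hgc hgm
    have hiok := S.ok_inf c m hcok hm.1
    have hlegi : Lt S.d ℓ (S.q a g.1) (S.q a (c ⊓ m)) := not_le_iff.mp fun h =>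
      not_le_iff.mpr hlt' (le_trans' (hpos _ hiok hi).le (hpos _ g.2 hag) (hpos m hm.1 hm.2.1).le h hlegm)
    have hbad : (⟨c ⊓ m, hiok⟩ : {a : L // S.ok a}) ∈ B := ⟨hi, inf_le_left, fun h =>
      hnle (le_trans' (hpos _ g.2 hag).le (hpos _ hiok hi) hαc.le (le_of_lt hlegi) h)⟩
    refine hgmax _ hbad (lt_of_le_of_ne (show g ≤ ⟨c ⊓ m, hiok⟩ from hgi) fun h => ?_)
    rw [show g.1 = c ⊓ m from congrArg Subtype.val h] at hlegi
    exact not_le_iff.mpr hlegi (le_refl' _)
  refine ⟨c, hcok, hac, fun g hg hag => ?_⟩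
  have hout : Le S.d ℓ (S.q a c) (S.q a g) → g ≤ c := by
    intro hle
    by_contra hgc
    obtain ⟨hi, hlt'⟩ := hinter g hg hag hgc hle
    refine not_le_iff.mpr hlt' (le_trans' (hpos _ (S.ok_inf c g hcok hg) hi).le hαc (hpos g hg hag).le
      (hin _ (S.ok_inf c g hcok hg) hi inf_le_left) hle)
  refine ⟨?_, hout⟩
  rcases le_total' (d := S.d) (ℓ := ℓ) (S.q a g) (S.q a c) with h | h
  · exact h
  · exact hin g hg hag (hout (le_of_lt h))

/-- Above the maximal destabilising element the interval is pure and slopes drop. -/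
theorem maxDestab_above (ℓ : ℕ) {a c : L} (ha : S.ok a) (hc : S.ok c) (hac : a < c) (hP : S.Pure a ⊤)
    (hmax : ∀ g, S.ok g → a < g → Le S.d ℓ (S.q a g) (S.q a c) ∧ (Le S.d ℓ (S.q a c) (S.q a g) → g ≤ c)) :
    S.SS ℓ a c ∧ S.Pure c ⊤ ∧ ∀ e, S.ok e → c < e → Lt S.d ℓ (S.q c e) (S.q a c) := by
  have hlt : ∀ e, S.ok e → c < e → Lt S.d ℓ (S.q c e) (S.q a c) := by
    intro e he hce
    have h1 : Lt S.d ℓ (S.q a e) (S.q a c) := not_le_iff.mp fun h =>
      absurd ((hmax e he (hac.trans hce)).2 h) (not_le_of_gt hce)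
    refine not_le_iff.mp fun h => not_le_iff.mpr h1 ?_
    rw [← S.q_add a c e, le_add_left_iff]
    exact h
  refine ⟨⟨fun e he hae hec => hP e he hae le_top, fun e he hae hec => (hmax e he hae).1⟩, fun e he hce _ => ?_, hlt⟩
  refine lt_of_le_of_ne (S.α_nonneg hc he hce.le) fun h0 => not_le_iff.mpr (hlt e he hce) ?_
  rw [← le_add_left_iff]
  exact le_of_alpha_eq_zero (S.α_nonneg ha hc hac.le) (S.deg_le ha hc hac.le) (S.deg_le hc he hce.le)
    (S.lc_nonneg hc he hce.le) h0.symm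

/-- A Harder-Narasimhan series from `a` to the top. -/
def IsHN (ℓ : ℕ) (a : L) (s : LTSeries L) : Prop :=
  s.head = a ∧ s.last = ⊤ ∧ (∀ j, S.ok (s j)) ∧ (∀ i : Fin s.length, S.SS ℓ (s i.castSucc) (s i.succ)) ∧
    ∀ i j : Fin s.length, i.val + 1 = j.val →
      Lt S.d ℓ (S.q (s j.castSucc) (s j.succ)) (S.q (s i.castSucc) (s i.succ))

theorem IsHN.le_first {ℓ : ℕ} {a : L} {s : LTSeries L} (h : S.IsHN ℓ a s) (z : Fin s.length) (hz : z.val = 0) :
    ∀ i : Fin s.length, 0 < i.val → Lt S.d ℓ (S.q (s i.castSucc) (s i.succ)) (S.q (s z.castSucc) (s z.succ)) := by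
  obtain ⟨-, -, hok, hss, hdec⟩ := h
  have hp : ∀ i : Fin s.length, 0 < alpha S.d (S.q (s i.castSucc) (s i.succ)) := fun i =>
    (hss i).1 _ (hok _) (s.step i) le_rfl
  intro i
  obtain ⟨n, hn⟩ := i
  induction n with
  | zero => intro h; exact absurd h (lt_irrefl _)
  | succ n ih =>
    intro _
    have h1 := hdec ⟨n, by omega⟩ ⟨n + 1, hn⟩ rfl
    rcases Nat.eq_zero_or_pos n with h0 | h0
    · have : (⟨n, by omega⟩ : Fin s.length) = z := Fin.ext (h0.trans hz.symm)
      rwa [this] at h1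
    · refine redLT_of_lt_of_le ?_ ?_ ?_ h1 (le_of_lt (ih (by omega) h0)) <;> rw [alpha_topPart] <;> exact hp _

/-- The first step of a Harder-Narasimhan series is the maximal destabilising element. -/
theorem IsHN.first_eq {ℓ : ℕ} {a : L} {s : LTSeries L} (h : S.IsHN ℓ a s) (hP : S.Pure a ⊤) {c : L} (hc : S.ok c)
    (hac : a < c) (hmax : ∀ g, S.ok g → a < g → Le S.d ℓ (S.q a g) (S.q a c) ∧ (Le S.d ℓ (S.q a c) (S.q a g) → g ≤ c))
    (hne : s.length ≠ 0) : s ⟨1, by omega⟩ = c := by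
  classical
  have hfirst := h.le_first (S := S) ⟨0, by omega⟩ rfl
  obtain ⟨hhead, hlast, hok, hss, hdec⟩ := h
  have ha : S.ok a := hhead ▸ hok 0
  have hcss := (S.maxDestab_above ℓ ha hc hac hP hmax).1
  have hex : ∃ n, ∃ hn : n < s.length + 1, c ≤ s ⟨n, hn⟩ :=
    ⟨s.length, by omega, le_top.trans_eq hlast.symm⟩
  obtain ⟨hn, hcn⟩ := Nat.find_spec hex
  have hn0 : Nat.find hex ≠ 0 := by
    intro e
    refine not_le_of_gt hac (hcn.trans_eq ?_)
    rw [← hhead]
    exact congrArg s (Fin.ext e)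
  set j := Nat.find hex - 1 with hj
  have hjl : j < s.length := by omega
  have hprev : ¬ c ≤ s ⟨j, by omega⟩ := fun hle =>
    Nat.find_min hex (show j < Nat.find hex by omega) ⟨by omega, hle⟩
  have hcj : c ≤ s (Fin.succ ⟨j, hjl⟩) := hcn.trans_eq (congrArg s (Fin.ext (show Nat.find hex = j + 1 by omega)))
  set p := s ⟨j, by omega⟩ with hpdef
  have hpp : p = s (Fin.castSucc ⟨j, hjl⟩) := rfl
  have hpok : S.ok p := hok _
  have hap : a ≤ p := hhead ▸ s.monotone (Fin.zero_le _)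
  have hstep : p ≤ s (Fin.succ ⟨j, hjl⟩) := (show p < s (Fin.succ ⟨j, hjl⟩) from hpp ▸ s.step ⟨j, hjl⟩).le
  have hlt : p < c ⊔ p := lt_of_le_of_ne le_sup_right fun e => hprev (e ▸ le_sup_left)
  have hiok := S.ok_inf c p hc hpok
  have hα : 0 < alpha S.d (S.q p (c ⊔ p)) :=
    (hss ⟨j, hjl⟩).1 _ (S.ok_sup c p hc hpok) hlt (sup_le hcj hstep)
  have h1 : Le S.d ℓ (S.q p (c ⊔ p)) (S.q p (s (Fin.succ ⟨j, hjl⟩))) :=
    (hss ⟨j, hjl⟩).2 _ (S.ok_sup c p hc hpok) hlt (sup_le hcj hstep)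
  have h2 : Le S.d ℓ (S.q a c) (S.q (c ⊓ p) c) := hcss.le_quot S ha hc hiok (le_inf hac.le hap) inf_le_left
  rw [S.q_inf_sup hc hpok] at h2
  have hαc : 0 < alpha S.d (S.q a c) := hP c hc hac le_top
  have hαj : 0 < alpha S.d (S.q p (s (Fin.succ ⟨j, hjl⟩))) :=
    (hss ⟨j, hjl⟩).1 _ (hok _) (s.step ⟨j, hjl⟩) le_rfl
  have h3 : Le S.d ℓ (S.q a c) (S.q p (s (Fin.succ ⟨j, hjl⟩))) := le_trans' hαc.le hα hαj.le h2 h1
  have hs1 : a < s ⟨1, by omega⟩ := hhead ▸ s.strictMono (by rw [Fin.lt_def]; simp)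
  have hs1max := hmax _ (hok _) hs1
  have hα1 : 0 < alpha S.d (S.q a (s ⟨1, by omega⟩)) := hP _ (hok _) hs1 le_top
  have hj0 : j = 0 := by
    by_contra hj0
    have := hfirst ⟨j, hjl⟩ (Nat.pos_of_ne_zero hj0)
    rw [show s (Fin.castSucc (⟨0, by omega⟩ : Fin s.length)) = a from hhead] at this
    exact not_le_iff.mpr this (le_trans' hα1.le hαc hαj.le hs1max.1 h3)
  have hp0 : p = a := by rw [hpdef, ← hhead]; exact congrArg s (Fin.ext hj0)
  have hs1' : s (Fin.succ ⟨j, hjl⟩) = s ⟨1, by omega⟩ := congrArg s (Fin.ext (by simp [hj0]))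
  rw [hs1'] at hcj h3
  rw [hp0] at h3
  exact le_antisymm (hs1max.2 h3) hcj

/-- Existence and uniqueness of the Harder-Narasimhan series. -/
theorem existsUnique_isHN (ℓ : ℕ) {a : L} (ha : S.ok a) (hP : S.Pure a ⊤) :
    ∃! s : LTSeries L, S.IsHN ℓ a s := by
  haveI := S.wf
  induction hA : (⟨a, ha⟩ : {a : L // S.ok a}) using WellFoundedGT.induction generalizing a with
  | _ A ih =>
    rcases (le_top : a ≤ ⊤).lt_or_eq with hlt | htop
    swap
    · subst htop
      refine ⟨RelSeries.singleton _ ⊤, ⟨rfl, rfl, fun _ => S.ok_top, fun i => i.elim0, fun i => i.elim0⟩, ?_⟩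
      rintro t ⟨hh, hl, -, -, -⟩
      have h0 : t.length = 0 := by
        by_contra h0
        have : t.head < t.last := t.strictMono (by rw [Fin.lt_def]; simp; omega)
        rw [hh, hl] at this
        exact lt_irrefl _ this
      refine RelSeries.ext (by simpa using h0) (funext fun i => ?_)
      have hi : i = 0 := Fin.ext (by have := i.isLt; simp only [h0] at this; simp; omega)
      subst hi
      exact hh
    obtain ⟨c, hc, hac, hmax⟩ := S.exists_maxDestab ℓ ha hP hlt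
    obtain ⟨hss, hPc, hdrop⟩ := S.maxDestab_above ℓ ha hc hac hP hmax
    obtain ⟨t, ht, htu⟩ := ih ⟨c, hc⟩ (hA ▸ hac) hc hPc rfl
    have hrel : a < t.head := ht.1.symm ▸ hac
    refine ⟨consSeries t a hrel, ⟨rfl, ?_, ?_, ?_, ?_⟩, ?_⟩
    · show (Fin.cons a t.toFun : Fin (t.length + 2) → L) (Fin.last (t.length + 1)) = ⊤
      rw [← Fin.succ_last, Fin.cons_succ]
      exact ht.2.1
    · show ∀ j : Fin (t.length + 2), S.ok ((Fin.cons a t.toFun : Fin (t.length + 2) → L) j)
      exact Fin.cases ha fun j => ht.2.2.1 j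
    · show ∀ i : Fin (t.length + 1), S.SS ℓ ((Fin.cons a t.toFun : Fin (t.length + 2) → L) i.castSucc)
        ((Fin.cons a t.toFun : Fin (t.length + 2) → L) i.succ)
      refine Fin.cases ?_ fun i => ?_
      · show S.SS ℓ a t.head
        rwa [ht.1]
      · rw [Fin.castSucc_succ, Fin.cons_succ, Fin.cons_succ]
        exact ht.2.2.2.1 i
    · show ∀ i j : Fin (t.length + 1), i.val + 1 = j.val →
        Lt S.d ℓ (S.q ((Fin.cons a t.toFun : Fin (t.length + 2) → L) j.castSucc) ((Fin.cons a t.toFun : Fin (t.length + 2) → L) j.succ))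
          (S.q ((Fin.cons a t.toFun : Fin (t.length + 2) → L) i.castSucc) ((Fin.cons a t.toFun : Fin (t.length + 2) → L) i.succ))
      intro i j hij
      induction j using Fin.cases with
      | zero => simp at hij
      | succ j =>
        rw [Fin.castSucc_succ, Fin.cons_succ, Fin.cons_succ]
        induction i using Fin.cases with
        | zero =>
          have hj : j.val = 0 := by simpa using hij.symm
          have h1 : t.toFun j.castSucc = c := by rw [← ht.1]; exact congrArg t.toFun (Fin.ext hj)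
          show Lt S.d ℓ (S.q (t.toFun j.castSucc) (t.toFun j.succ)) (S.q a t.head)
          rw [ht.1, h1]
          exact hdrop _ (ht.2.2.1 _) (h1 ▸ t.step j)
        | succ i =>
          rw [Fin.castSucc_succ, Fin.cons_succ, Fin.cons_succ]
          exact ht.2.2.2.2 i j (by simpa using hij)
    · intro u hu
      have hne : u.length ≠ 0 := by
        intro h0
        have : u.head = u.last := congrArg u (Fin.ext (by simp [h0]))
        rw [hu.1, hu.2.1] at this
        exact hlt.ne this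
      have h1 := hu.first_eq S hP hc hac hmax hne
      obtain ⟨hh, hl, hok, hssu, hdecu⟩ := hu
      have htail : u.tail hne = t := htu _ ⟨(RelSeries.head_tail _ _).trans ((congrArg u (Fin.ext (by simp; omega))).trans h1),
        (RelSeries.last_tail _ _).trans hl, fun j => hok _,
        fun i => hssu ⟨i.val + 1, by have := i.isLt; simp at this; omega⟩,
        fun i j hij => hdecu ⟨i.val + 1, by have := i.isLt; simp at this; omega⟩
          ⟨j.val + 1, by have := j.isLt; simp at this; omega⟩ (by simp; omega)⟩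
      subst htail
      refine RelSeries.ext (show u.length = (u.tail hne).length + 1 by simp; omega) (funext fun j => ?_)
      obtain ⟨n, hn⟩ := j
      rcases n with _ | n
      · exact hh
      · exact congrArg u.toFun (Fin.ext rfl)

end LatSys

end Groth.Agent.ShStab28
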