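import Groth.Prelude.Def_StabCat
import Mathlib.Analysis.Polynomial.Basic
import Mathlib.Algebra.Polynomial.Monomial
import Mathlib.Tactic

/-!
# The order on Hilbert polynomials
-/

open Polynomial StabCat

noncomputable section

namespace Groth.Agent.ShStab28

/-- The difference measuring the reduced comparison. -/
def redDiff (d : ℕ) (P Q : ℚ[X]) : ℚ[X] := alpha d P • Q - alpha d Q • P

theorem alpha_add (d : ℕ) (P Q : ℚ[X]) : alpha d (P + Q) = alpha d P + alpha d Q := by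
  simp [alpha, mul_add]

theorem alpha_smul (d : ℕ) (c : ℚ) (P : ℚ[X]) : alpha d (c • P) = c * alpha d P := by
  simp [alpha, mul_left_comm]

theorem alpha_zero (d : ℕ) : alpha d (0 : ℚ[X]) = 0 := by simp [alpha]

theorem coeff_redDiff_self (d : ℕ) (P Q : ℚ[X]) : (redDiff d P Q).coeff d = 0 := by
  simp [redDiff, alpha]; ring

theorem redDiff_add_left (d : ℕ) (A B : ℚ[X]) : redDiff d A (A + B) = redDiff d A B := by
  simp only [redDiff, alpha_add, smul_add, add_smul]; abel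

theorem redDiff_add_right (d : ℕ) (A B : ℚ[X]) : redDiff d (A + B) B = redDiff d A B := by
  simp only [redDiff, alpha_add, smul_add, add_smul]; abel

theorem eval_eventually_lt {P : ℚ[X]} (h : 0 < P.leadingCoeff) :
    ∃ N : ℕ, ∀ m : ℕ, N ≤ m → 0 < P.eval (m : ℚ) := by
  by_cases hd : P.degree ≤ 0
  · obtain ⟨c, rfl⟩ : ∃ c, P = C c := ⟨_, Polynomial.eq_C_of_degree_le_zero hd⟩
    exact ⟨0, fun m _ => by rw [leadingCoeff_C] at h; simpa using h⟩
  · have ht := (P.tendsto_atTop_of_leadingCoeff_nonneg (lt_of_not_ge hd) h.le).comp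
      (tendsto_natCast_atTop_atTop (R := ℚ))
    obtain ⟨N, hN⟩ := Filter.eventually_atTop.mp (ht.eventually_gt_atTop 0)
    exact ⟨N, hN⟩

theorem polyLT_iff {P Q : ℚ[X]} : PolyLT P Q ↔ 0 < (Q - P).leadingCoeff := by
  constructor
  · rintro ⟨N, hN⟩
    by_contra h
    rcases lt_or_eq_of_le (not_lt.mp h) with h' | h'
    · obtain ⟨N', hN'⟩ := eval_eventually_lt (P := P - Q) (by rw [← neg_sub Q P, leadingCoeff_neg]; linarith)
      have := hN' (max N N') (le_max_right _ _)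
      have := hN (max N N') (le_max_left _ _)
      rw [eval_sub] at *
      linarith
    · rw [leadingCoeff_eq_zero, sub_eq_zero] at h'
      exact absurd (hN N le_rfl) (by rw [h']; exact lt_irrefl _)
  · intro h
    obtain ⟨N, hN⟩ := eval_eventually_lt h
    exact ⟨N, fun m hm => by have := hN m hm; rw [eval_sub] at this; linarith⟩

theorem polyLE_iff {P Q : ℚ[X]} : PolyLE P Q ↔ 0 ≤ (Q - P).leadingCoeff := by
  constructor
  · rintro ⟨N, hN⟩
    by_contra h
    obtain ⟨N', hN'⟩ := eval_eventually_lt (P := P - Q) (by rw [← neg_sub Q P, leadingCoeff_neg]; linarith [not_le.mp h])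
    have := hN' (max N N') (le_max_right _ _)
    have := hN (max N N') (le_max_left _ _)
    rw [eval_sub] at *
    linarith
  · intro h
    rcases h.lt_or_eq with h' | h'
    · obtain ⟨N, hN⟩ := eval_eventually_lt h'
      exact ⟨N, fun m hm => by have := hN m hm; rw [eval_sub] at this; linarith⟩
    · rw [eq_comm, leadingCoeff_eq_zero, sub_eq_zero] at h'
      exact ⟨0, fun m _ => by rw [h']⟩

theorem polyLE_or_polyLT (P Q : ℚ[X]) : PolyLE P Q ∨ PolyLT Q P := by
  rw [polyLE_iff, polyLT_iff, ← neg_sub Q P, leadingCoeff_neg]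
  rcases le_or_gt 0 (Q - P).leadingCoeff with h | h
  · exact Or.inl h
  · exact Or.inr (by linarith)

theorem redLE_iff {d : ℕ} {P Q : ℚ[X]} : RedLE d P Q ↔ 0 ≤ (redDiff d P Q).leadingCoeff := polyLE_iff

theorem redLT_iff {d : ℕ} {P Q : ℚ[X]} : RedLT d P Q ↔ 0 < (redDiff d P Q).leadingCoeff := polyLT_iff

theorem redEq_iff {d : ℕ} {P Q : ℚ[X]} : RedEq d P Q ↔ redDiff d P Q = 0 := by
  rw [redDiff, sub_eq_zero]; exact eq_comm

theorem redDiff_comm (d : ℕ) (P Q : ℚ[X]) : redDiff d Q P = -redDiff d P Q := by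
  rw [redDiff, redDiff, neg_sub]

theorem redLE_or_redLT (d : ℕ) (P Q : ℚ[X]) : RedLE d P Q ∨ RedLT d Q P := by
  rw [redLE_iff, redLT_iff, redDiff_comm d P Q, leadingCoeff_neg]
  rcases le_or_gt 0 (redDiff d P Q).leadingCoeff with h | h
  · exact Or.inl h
  · exact Or.inr (by linarith)

theorem redLT_iff_not_redLE {d : ℕ} {P Q : ℚ[X]} : RedLT d Q P ↔ ¬ RedLE d P Q := by
  rw [redLE_iff, redLT_iff, redDiff_comm d P Q, leadingCoeff_neg]
  constructor
  · intro h; linarith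
  · intro h; linarith [not_le.mp h]

theorem redLT_le {d : ℕ} {P Q : ℚ[X]} (h : RedLT d P Q) : RedLE d P Q := redLE_iff.mpr (redLT_iff.mp h).le

theorem redEq_le {d : ℕ} {P Q : ℚ[X]} (h : RedEq d P Q) : RedLE d P Q :=
  redLE_iff.mpr (by rw [redEq_iff.mp h, leadingCoeff_zero])

theorem redEq_symm {d : ℕ} {P Q : ℚ[X]} (h : RedEq d P Q) : RedEq d Q P := h.symm

theorem redEq_refl (d : ℕ) (P : ℚ[X]) : RedEq d P P := rfl

theorem redLE_lt_or_eq {d : ℕ} {P Q : ℚ[X]} (h : RedLE d P Q) : RedLT d P Q ∨ RedEq d P Q := by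
  rcases (redLE_iff.mp h).lt_or_eq with h' | h'
  · exact Or.inl (redLT_iff.mpr h')
  · exact Or.inr (redEq_iff.mpr (leadingCoeff_eq_zero.mp h'.symm))

theorem redEq_of_le_of_ge {d : ℕ} {P Q : ℚ[X]} (h : RedLE d P Q) (h' : RedLE d Q P) : RedEq d P Q :=
  (redLE_lt_or_eq h).resolve_left fun hlt => redLT_iff_not_redLE.mp hlt h'

theorem redLE_trans {d : ℕ} {P Q R : ℚ[X]} (hP : 0 ≤ alpha d P) (hQ : 0 < alpha d Q) (hR : 0 ≤ alpha d R)
    (h₁ : RedLE d P Q) (h₂ : RedLE d Q R) : RedLE d P R := by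
  obtain ⟨N₁, h₁⟩ := h₁
  obtain ⟨N₂, h₂⟩ := h₂
  refine ⟨max N₁ N₂, fun m hm => ?_⟩
  have a := mul_le_mul_of_nonneg_left (h₁ m (le_trans (le_max_left _ _) hm)) hR
  have b := mul_le_mul_of_nonneg_left (h₂ m (le_trans (le_max_right _ _) hm)) hP
  simp only [eval_smul, smul_eq_mul] at a b ⊢
  refine le_of_mul_le_mul_left ?_ hQ
  linarith

theorem redLT_of_lt_of_le {d : ℕ} {P Q R : ℚ[X]} (hP : 0 < alpha d P) (hQ : 0 < alpha d Q) (hR : 0 < alpha d R)
    (h₁ : RedLT d P Q) (h₂ : RedLE d Q R) : RedLT d P R :=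
  redLT_iff_not_redLE.mpr fun h => redLT_iff_not_redLE.mp h₁ (redLE_trans hQ.le hR hP.le h₂ h)

theorem redLT_of_le_of_lt {d : ℕ} {P Q R : ℚ[X]} (hP : 0 < alpha d P) (hQ : 0 < alpha d Q) (hR : 0 < alpha d R)
    (h₁ : RedLE d P Q) (h₂ : RedLT d Q R) : RedLT d P R :=
  redLT_iff_not_redLE.mpr fun h => redLT_iff_not_redLE.mp h₂ (redLE_trans hR.le hP hQ.le h h₁)

theorem redEq_trans {d : ℕ} {P Q R : ℚ[X]} (hP : 0 ≤ alpha d P) (hQ : 0 < alpha d Q) (hR : 0 ≤ alpha d R)
    (h₁ : RedEq d P Q) (h₂ : RedEq d Q R) : RedEq d P R :=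
  redEq_of_le_of_ge (redLE_trans hP hQ hR (redEq_le h₁) (redEq_le h₂))
    (redLE_trans hR hQ hP (redEq_le (redEq_symm h₂)) (redEq_le (redEq_symm h₁)))

/-! ### The three ways to compare in an extension -/

theorem redLE_add_left {d : ℕ} {A B : ℚ[X]} : RedLE d A (A + B) ↔ RedLE d A B := by
  rw [redLE_iff, redLE_iff, redDiff_add_left]

theorem redLE_add_right {d : ℕ} {A B : ℚ[X]} : RedLE d (A + B) B ↔ RedLE d A B := by
  rw [redLE_iff, redLE_iff, redDiff_add_right]

theorem redLT_add_left {d : ℕ} {A B : ℚ[X]} : RedLT d A (A + B) ↔ RedLT d A B := by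
  rw [redLT_iff, redLT_iff, redDiff_add_left]

theorem redLT_add_right {d : ℕ} {A B : ℚ[X]} : RedLT d (A + B) B ↔ RedLT d A B := by
  rw [redLT_iff, redLT_iff, redDiff_add_right]

theorem redEq_add_left {d : ℕ} {A B : ℚ[X]} : RedEq d A (A + B) ↔ RedEq d A B := by
  rw [redEq_iff, redEq_iff, redDiff_add_left]

theorem redEq_add_right {d : ℕ} {A B : ℚ[X]} : RedEq d (A + B) B ↔ RedEq d A B := by
  rw [redEq_iff, redEq_iff, redDiff_add_right]

/-! ### Truncations -/

theorem coeff_topPart (ℓ d : ℕ) (P : ℚ[X]) (n : ℕ) :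
    (topPart ℓ d P).coeff n = if d - ℓ ≤ n ∧ n ≤ d then P.coeff n else 0 := by
  rw [topPart, finsetSum_coeff]
  simp only [coeff_monomial]
  rw [Finset.sum_ite_eq', if_congr Finset.mem_Icc rfl rfl]

theorem alpha_topPart (ℓ d : ℕ) (P : ℚ[X]) : alpha d (topPart ℓ d P) = alpha d P := by
  simp [alpha, coeff_topPart]

theorem topPart_redDiff (ℓ d : ℕ) (P Q : ℚ[X]) :
    topPart ℓ d (redDiff d P Q) = redDiff d (topPart ℓ d P) (topPart ℓ d Q) := by
  ext n
  simp only [redDiff, coeff_topPart, alpha_topPart, coeff_sub, coeff_smul]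
  split_ifs <;> simp

theorem natDegree_redDiff_le {d : ℕ} {P Q : ℚ[X]} (hP : P.natDegree ≤ d) (hQ : Q.natDegree ≤ d) :
    (redDiff d P Q).natDegree ≤ d :=
  (natDegree_sub_le _ _).trans (max_le ((natDegree_smul_le _ _).trans hQ) ((natDegree_smul_le _ _).trans hP))

theorem topPart_cases {ℓ d : ℕ} {D : ℚ[X]} (hD : D.natDegree ≤ d) :
    (topPart ℓ d D).leadingCoeff = D.leadingCoeff ∨ topPart ℓ d D = 0 := by
  by_cases h : d - ℓ ≤ D.natDegree
  · left
    have hle : (topPart ℓ d D).natDegree ≤ D.natDegree := natDegree_le_iff_coeff_eq_zero.mpr fun n hn => by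
      rw [coeff_topPart]
      split_ifs
      · exact coeff_eq_zero_of_natDegree_lt hn
      · rfl
    have hc : (topPart ℓ d D).coeff D.natDegree = D.leadingCoeff := by
      rw [coeff_topPart, if_pos ⟨h, hD⟩, leadingCoeff]
    by_cases h0 : D = 0
    · subst h0; simp [topPart]
    · rw [leadingCoeff, natDegree_eq_of_le_of_coeff_ne_zero hle (by rw [hc]; exact leadingCoeff_ne_zero.mpr h0), hc]
  · right
    ext n
    rw [coeff_topPart, coeff_zero]
    split_ifs with h'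
    · exact coeff_eq_zero_of_natDegree_lt (by omega)
    · rfl

theorem redLE_topPart {ℓ d : ℕ} {P Q : ℚ[X]} (hP : P.natDegree ≤ d) (hQ : Q.natDegree ≤ d) (h : RedLE d P Q) :
    RedLE d (topPart ℓ d P) (topPart ℓ d Q) := by
  rw [redLE_iff] at h ⊢
  rw [← topPart_redDiff]
  rcases topPart_cases (ℓ := ℓ) (natDegree_redDiff_le hP hQ) with e | e
  · rwa [e]
  · rw [e, leadingCoeff_zero]

theorem redLT_of_topPart {ℓ d : ℕ} {P Q : ℚ[X]} (hP : P.natDegree ≤ d) (hQ : Q.natDegree ≤ d)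
    (h : RedLT d (topPart ℓ d P) (topPart ℓ d Q)) : RedLT d P Q := by
  rw [redLT_iff] at h ⊢
  rw [← topPart_redDiff] at h
  rcases topPart_cases (ℓ := ℓ) (natDegree_redDiff_le hP hQ) with e | e
  · rwa [← e]
  · rw [e, leadingCoeff_zero] at h; exact absurd h (lt_irrefl _)

theorem topPart_self {d : ℕ} {P : ℚ[X]} (hP : P.natDegree ≤ d) : topPart d d P = P := by
  ext n
  rw [coeff_topPart]
  split_ifs with h
  · rfl
  · rw [coeff_eq_zero_of_natDegree_lt (by omega)]

theorem redDiff_topPart_one {d : ℕ} (hd : 1 ≤ d) (P Q : ℚ[X]) :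
    redDiff d (topPart 1 d P) (topPart 1 d Q) = monomial (d - 1) ((redDiff d P Q).coeff (d - 1)) := by
  rw [← topPart_redDiff]
  ext n
  rw [coeff_topPart, coeff_monomial]
  rcases eq_or_ne (d - 1) n with rfl | hn
  · rw [if_pos ⟨le_rfl, Nat.sub_le _ _⟩, if_pos rfl]
  · rw [if_neg hn]
    split_ifs with h
    · obtain rfl : n = d := by omega
      exact coeff_redDiff_self _ _ _
    · rfl

theorem hatSlope_le_iff {d : ℕ} (hd : 1 ≤ d) {P Q : ℚ[X]} (hP : 0 < alpha d P) (hQ : 0 < alpha d Q) :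
    hatSlope d P ≤ hatSlope d Q ↔ RedLE d (topPart 1 d P) (topPart 1 d Q) := by
  rw [redLE_iff, redDiff_topPart_one hd, leadingCoeff_monomial, hatSlope, hatSlope, div_le_div_iff₀ hP hQ]
  simp only [redDiff, coeff_sub, coeff_smul, smul_eq_mul, alpha]
  have : (0 : ℚ) < ((d - 1).factorial : ℚ) := by exact_mod_cast (d - 1).factorial_pos
  constructor
  · intro h
    by_contra hlt
    nlinarith [mul_lt_mul_of_pos_left (not_le.mp hlt) this]
  · intro h
    nlinarith [mul_le_mul_of_nonneg_left h this.le]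

theorem hatSlope_lt_iff {d : ℕ} (hd : 1 ≤ d) {P Q : ℚ[X]} (hP : 0 < alpha d P) (hQ : 0 < alpha d Q) :
    hatSlope d P < hatSlope d Q ↔ RedLT d (topPart 1 d P) (topPart 1 d Q) := by
  rw [redLT_iff_not_redLE, ← hatSlope_le_iff hd hQ hP, not_le]

/-- Leading coefficient and multiplicity. -/
theorem alpha_nonneg {d : ℕ} {P : ℚ[X]} (hP : P.natDegree ≤ d) (h : 0 ≤ P.leadingCoeff) : 0 ≤ alpha d P := by
  rw [alpha]
  refine mul_nonneg (Nat.cast_nonneg _) ?_
  rcases eq_or_lt_of_le hP with h' | h'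
  · rw [← h']; exact h
  · rw [coeff_eq_zero_of_natDegree_lt h']

theorem alpha_pos {d : ℕ} {P : ℚ[X]} (hP : P.natDegree = d) (h : 0 < P.leadingCoeff) : 0 < alpha d P := by
  rw [alpha, ← hP]
  exact mul_pos (by exact_mod_cast P.natDegree.factorial_pos) h

theorem alpha_eq_zero_of_lt {d : ℕ} {P : ℚ[X]} (hP : P.natDegree < d) : alpha d P = 0 := by
  rw [alpha, coeff_eq_zero_of_natDegree_lt hP, mul_zero]

theorem polyLE_add_right {A B : ℚ[X]} (hB : 0 ≤ B.leadingCoeff) : PolyLE A (A + B) := by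
  rw [polyLE_iff, add_sub_cancel_left]; exact hB

end Groth.Agent.ShStab28
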